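import Cfsg.Agent.Lib.Alt27.Ten
import Cfsg.Agent.Lib.J1Rec.Count
/-! An involution with centralizer `2.Aₙ`, `n ≠ 8, 11`, is isolated -/
set_option autoImplicit false
set_option linter.unusedSectionVars false
namespace H27.AD
open Subgroup Equiv H95 H42.BSE

variable {G : Type*} [Group G] [Finite G] {z a d e g : G} {φ : centralizer ({z} : Set G) →* S10} {δ η : S10}

theorem cV {n s u : G} (a : n * z * n⁻¹ = s) (b : n * s * n⁻¹ = z * s) (z2 : z * z = 1) (zs : z * s = s * z)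
    (c : Commute u z) (d : Commute u s) : Commute (n * u * n⁻¹) z ∧ Commute (n * u * n⁻¹) s := by
  have e := (c.mul_right d).conj n
  rw [← conj_mul (b := n) (a := z), a, b, zs, ← mul_assoc s s, ← a, conj_mul, z2] at e
  exact ⟨by simpa using e, a ▸ c.conj n⟩

theorem mem_zpowers_of_prime {x y : G} (y3 : y ^ 3 = 1) (x1 : x ≠ 1) (h : x ∈ zpowers y) : y ∈ zpowers x :=
  (eq_of_le_of_card_ge (zpowers_le.2 h) (by
    obtain ⟨j, rfl⟩ := h
    rw [H41.A9.card_zpowers_three y3 (by rintro rfl; simp at x1), H41.A9.card_zpowers_three _ x1]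
    rw [← zpow_natCast, ← zpow_mul, mul_comm, zpow_mul, zpow_natCast, y3, one_zpow])).ge (mem_zpowers y)

theorem orb {w y α β : G} (c : Commute w y) (w3 : w ^ 3 = 1)
    (ne : ∀ i j : ℕ, y ^ i * α * (y ^ i)⁻¹ ≠ y ^ j * β * (y ^ j)⁻¹)
    (h : (∃ j : Fin 3, w * β * w⁻¹ = y ^ j.1 * α * (y ^ j.1)⁻¹) ∨ ∃ j : Fin 3, w * β * w⁻¹ = y ^ j.1 * β * (y ^ j.1)⁻¹)
    {i : ℕ} : w * α * w⁻¹ ≠ y ^ i * β * (y ^ i)⁻¹ := fun e => by
  have k : ∀ (l : ℕ) u, w * (y ^ l * u * (y ^ l)⁻¹) * w⁻¹ = y ^ l * (w * u * w⁻¹) * (y ^ l)⁻¹ := fun l u => by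
    rw [← mul_assoc, ← mul_assoc, (c.pow_right l).eq, mul_assoc _ _ w⁻¹, ← mul_inv_rev, (c.pow_right l).eq]; group
  rcases h with ⟨j, f⟩ | ⟨j, f⟩
  · refine ne 0 (i + j + i) ?_
    calc _ = w * (w * (w * α * w⁻¹) * w⁻¹) * w⁻¹ := by
          rw [pow_zero, ← w3, pow_three]; group
      _ = _ := by rw [e, k, f, k, k, e]; group
  · refine ne j i ((MulAut.conj w).injective ?_)
    rw [MulAut.conj_apply, MulAut.conj_apply, k, k, e, f]; group

theorem albe {ξ : S10} (m : ξ ∈ [al, be]) : ξ * ξ = 1 ∧ 8 ∣ ξ.support.card ∧ ξ ≠ 1 ∧ ξ * ps * (ξ * ps) = 1 ∧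
    8 ∣ (ξ * ps).support.card ∧ ξ * (pa * pb * ξ * (pa * pb)⁻¹) * (ξ * (pa * pb * ξ * (pa * pb)⁻¹)) = 1 ∧
    8 ∣ (ξ * (pa * pb * ξ * (pa * pb)⁻¹)).support.card ∧ ξ ≠ pa * pb * ξ * (pa * pb)⁻¹ := by
  rcases List.mem_pair.1 m with rfl | rfl <;> decide +kernel

/-- the product of the conjugates of `γ` under `y` -/
def Rl {G : Type*} [Group G] (y γ : G) : G := γ * (y * γ * y⁻¹) * (y⁻¹ * γ * y)

namespace DC
variable (h : DC z φ)
include h

theorem inv8 (hd : Ov φ d δ) (d2 : d * d = 1) (h1 : d ≠ 1) (h2 : d ≠ z) : δ.support.card = 8 := by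
  have := h.invol hd d2 h1 h2
  have := δ.support.card_le_univ
  rw [Fintype.card_fin] at this
  omega

theorem conjz (c : Commute z (g * z * g⁻¹)) (n : g * z * g⁻¹ ≠ z) (hd : Ov φ d δ) (d2 : δ * δ = 1)
    (d8 : δ.support.card = 8) : ∃ k, k * z * k⁻¹ = d := by
  obtain ⟨σ, o⟩ := exists_ov φ c.eq.symm
  have s2 : g * z * g⁻¹ * (g * z * g⁻¹) = 1 := by rw [conj_mul, h.sq]; simp
  have s1 : g * z * g⁻¹ ≠ 1 := by simpa using h.ne
  obtain ⟨k, -, e⟩ := h.conj_invol o hd s2 s1 n d2 ((h.inv8 o s2 s1 n).trans d8.symm)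
  exact ⟨k * g, by rw [← e]; group⟩

theorem only (he : Ov φ e η) (e3 : e ^ 3 = 1) (h0 : η.support.card ≠ 0) (h6 : η.support.card ≠ 6) (d : G)
    (c1 : d * z = z * d) (c2 : d * e = e * d) (d2 : d * d = 1) : d = 1 ∨ d = z := by
  by_contra! f
  obtain ⟨δ, o⟩ := exists_ov φ c1
  exact (supp6 (o.sq_one d2) (h.inv8 o d2 f.1 f.2) (he.pow_one e3) (he.comm_of o c2.symm)).elim h0 h6

theorem cent_a (c : Commute z (g * z * g⁻¹)) (n : g * z * g⁻¹ ≠ z) (ha : Ov φ a pa) (a3 : a ^ 3 = 1) :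
    centralizer {a} ≤ centralizer ({z} : Set G) := by
  obtain ⟨t, ht⟩ := h.lift (σ := pt) (by decide +kernel)
  obtain ⟨k, hk⟩ := h.lift (σ := swap 3 5 * swap 4 6) (by decide +kernel)
  have t2 := h.sq8 ht (by decide +kernel) (by decide +kernel)
  obtain ⟨i, hi, i2, it, -⟩ := h.exists_e (a := 3) (b := 5) ht (by decide +kernel) (by decide +kernel)
    (by decide +kernel) (by decide +kernel) (by decide +kernel)
  obtain ⟨f, hf, f7⟩ := h.exists_odd (k := 3) (σ := pf) (by decide +kernel) (by decide +kernel)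
  obtain ⟨m, hm⟩ := h.lift (σ := swap 3 6 * swap 4 7) (by decide +kernel)
  obtain ⟨u, hu⟩ := h.conjz c n ht (by decide +kernel) (by decide +kernel)
  have k0 : ∀ B ≤ centralizer ({t} : Set G), B.map (MulAut.conj u⁻¹).toMonoidHom ≤ centralizer {z} := by
    rintro B hB _ ⟨b, hb, rfl⟩
    simpa [← hu, mul_assoc] using mem_cent_iff.2 (Commute.conj (mem_cent_iff.1 (hB hb)) u⁻¹).eq
  have k1 := fun B hB => card_map_of_injective (f := (MulAut.conj u⁻¹).toMonoidHom) (MulAut.conj u⁻¹).injective ▸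
    h.card_Im (k0 B hB)
  refine cent_le h.sq h.ne a3 (ha.ne_one (by decide +kernel)) ha.comm.symm
    (h.only ha a3 (by decide +kernel) (by decide +kernel)) (fun y hy => ?_) t2 ht.comm.symm
    (h.conj_eq ht ha ha.inv (by decide +kernel) a3 (by rw [inv_pow, a3, inv_one]))
    (h.comm_cube hk ha (by decide +kernel) a3) ?_ (h.comm_cube hi ha (by decide +kernel) a3) it i2
    (h.comm_cube hf ha (by decide +kernel) a3) f7 (h.comm_cube hm ha (by decide +kernel) a3)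
    (h.sq4 (hf.mul (hm.conj hf.inv)) (by decide +kernel) (by decide +kernel))
    ((k1 _ le_rfl).trans ?_) fun B hB B3 e => not81 (fun σ hσ => ?_)
      ((by norm_num : Nat.Coprime 81 2).dvd_of_dvd_mul_left (e.trans (k1 B hB)))
  · set Y := Od (centralizer {a}) ⊓ centralizer {z}
    have o : Odd (Nat.card Y) := (odd_card_Od _).of_dvd_nat (card_dvd_of_le inf_le_left)
    have o' : Odd (Nat.card (Im φ Y)) := o.of_dvd_nat ((card_map_dvd _ _).trans
      (Nat.card_congr (subgroupOfEquivOfLe inf_le_right).toEquiv).dvd)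
    have k2 : ∀ σ, Perm.sign σ = 1 → σ * pa = pa * σ → σ ∈ normalizer (Im φ Y : Set S10) := fun σ s1 s2 =>
      let ⟨x, hx⟩ := h.lift s1
      norm_Im hx fun y hy => mem_inf.2 ⟨conj_mem_of_norm (H45.pcore_norm _ _ (mem_cent_iff.2
        (h.comm_cube hx ha s2 a3))) y hy.1, mul_mem (mul_mem hx.1 hy.2) (inv_mem hx.1)⟩
    obtain ⟨σ, hσ⟩ := exists_ov φ (mem_cent_iff.1 hy.2)
    have m := mem_Im.2 ⟨y, hy, hσ⟩
    have f1 := fixV (p := 3) (q := 4) (r := 5) (s := 6) o' (by decide) (k2 _ (by decide +kernel) (by decide +kernel))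
      (k2 _ (by decide +kernel) (by decide +kernel)) σ m
    have f2 := fixV (p := 6) (q := 7) (r := 8) (s := 9) o' (by decide) (k2 _ (by decide +kernel) (by decide +kernel))
      (k2 _ (by decide +kernel) (by decide +kernel)) σ m
    obtain ⟨j, rfl⟩ := AD.cent_a (hσ.comm_of ha (mem_cent_iff.1 (H45.pcore_sub _ _ hy.1))) (by simp [f1, f2])
    exact Gn.mem_of_sq (o.of_dvd_nat (Y.orderOf_dvd_natCard hy)) (h.sq_eq (ha.pow j) hσ ▸
      mul_mem (npow_mem_zpowers a j) (npow_mem_zpowers a j))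
  · rcases h.eq_or ht ((by decide +kernel : swap 3 5 * swap 4 6 * pt * (swap 3 5 * swap 4 6)⁻¹ = pt) ▸ hk.conj ht)
      with e | e
    · have := h.sq8 (hk.mul ht) (by decide +kernel) (by decide +kernel)
      rw [← pow_two, Commute.mul_pow (mul_inv_eq_iff_eq_mul.1 e), pow_two, pow_two, t2, h.sq_dt (by decide) hk, mul_one] at this
      exact absurd this h.ne
    · rw [e, ht.comm]
  · refine (Nat.mul_dvd_mul_left 2 (card_subgroup_dvd_card _)).trans ?_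
    rw [Nat.card_perm, Nat.card_eq_fintype_card, Fintype.card_fin, mul_comm]
  · obtain ⟨_, ⟨b, hb, rfl⟩, o⟩ := mem_Im.1 hσ
    exact o.pow_one (by rw [← map_pow, B3 b hb, map_one])

/-- the element of order three acting on `⟨z, s⟩` -/
theorem exists_w {s y q : G} (c : Commute z (g * z * g⁻¹)) (n : g * z * g⁻¹ ≠ z) (hs : Ov φ s ps)
    (hy : Ov φ y (pa * pb)) (y3 : y ^ 3 = 1) (hq : Ov φ q pq) : ∃ w r, w ^ 3 ^ r = 1 ∧ w * z * w⁻¹ = s ∧
      w * s * w⁻¹ = z * s ∧ Commute w y ∧ q * w * q⁻¹ = w⁻¹ ∧ q * y * q⁻¹ = y⁻¹ := by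
  have s2 := h.sq8 hs (by decide +kernel) (by decide +kernel)
  have q2 := h.sq8 hq (by decide +kernel) (by decide +kernel)
  have s1 := hs.ne_one (by decide +kernel)
  have sz := h.ne_z hs (by decide +kernel)
  have zs := hs.comm.symm
  have qy := h.conj_eq hq hy hy.inv (by decide +kernel) y3 (by rw [inv_pow, y3, inv_one])
  have qz : q * z * q⁻¹ = z := by simp [hq.comm]
  have qs : q * s * q⁻¹ = z * s := by
    rcases h.eq_or hs ((by decide +kernel : pq * ps * pq⁻¹ = ps) ▸ hq.conj hs) with e | e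
    · have := h.sq4 (hq.mul hs) (by decide +kernel) (by decide +kernel)
      rw [← pow_two, Commute.mul_pow (mul_inv_eq_iff_eq_mul.1 e), pow_two, pow_two, s2, q2, mul_one] at this
      exact absurd this.symm h.ne
    · rw [e, zs]
  obtain ⟨g1, e1⟩ := h.conjz c n hs (by decide +kernel) (by decide +kernel)
  obtain ⟨n0, n1, n2⟩ : ∃ n, n * z * n⁻¹ = s ∧ n * s * n⁻¹ = z * s := by
    obtain ⟨σ, o⟩ := exists_ov φ (g := g1⁻¹ * z * g1⁻¹⁻¹) (by
      simpa [← e1, mul_assoc] using (Commute.conj zs g1⁻¹).eq)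
    have u2 : g1⁻¹ * z * g1⁻¹⁻¹ * (g1⁻¹ * z * g1⁻¹⁻¹) = 1 := by rw [conj_mul, h.sq]; simp
    obtain ⟨k, c, e⟩ := h.conj_invol hs o s2 s1 sz (o.sq_one u2) ((h.inv8 o u2 (conj_eq_one_iff.not.2 h.ne) fun e =>
      sz (by rw [← e1]; nth_rewrite 1 [← e]; group)).symm ▸ by decide +kernel)
    have c1 : g1 * k * z * (g1 * k)⁻¹ = s := by rw [← e1, mul_assoc g1, c]; group
    have c2 : g1 * k * s * (g1 * k)⁻¹ = z := by
      calc _ = g1 * (k * s * k⁻¹) * g1⁻¹ := by group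
        _ = _ := by rw [e]; group
    have c3 : ∀ u, g1 * k * q * u * (g1 * k * q)⁻¹ = g1 * k * (q * u * q⁻¹) * (g1 * k)⁻¹ := fun u => by group
    exact ⟨g1 * k * q, by rw [c3, qz, c1], by rw [c3, qs, ← conj_mul, c1, c2, zs]⟩
  have ys := (h.comm_cube hs hy (by decide +kernel) y3).symm
  have := Fact.mk Nat.prime_three
  obtain ⟨r, hr, e⟩ := H49.J1.conj_into_zpowers (M := centralizer {z} ⊓ centralizer {s}) (e := n0 * y * n0⁻¹)
    ⟨hy.1, mem_cent_iff.2 ys⟩ (let ⟨a, b⟩ := cV n1 n2 h.sq zs hy.comm ys; ⟨mem_cent_iff.2 a, mem_cent_iff.2 b⟩)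
    (orderOf_eq_prime y3 (hy.ne_one (by decide +kernel))) (Gn.conj_pow_eq_one y3 _) fun e => by
      have := e.trans (h.card_cent hs le_rfl)
      rw [AD.card_cent (p := 2) (k := 3) (by decide +kernel) (by decide +kernel)] at this
      exact absurd this (by decide +kernel)
  have c3 : ∀ u, r * (n0 * u * n0⁻¹) * r⁻¹ = r * n0 * u * (r * n0)⁻¹ := fun u => by group
  have m1 : r * n0 * z * (r * n0)⁻¹ = s := by rw [← c3, n1, mem_cent_iff.1 hr.2, mul_inv_cancel_right]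
  have m2 : r * n0 * s * (r * n0)⁻¹ = z * s := by
    rw [← c3, n2, ← conj_mul, mem_cent_iff.1 hr.2, mem_cent_iff.1 hr.1]; simp
  rw [c3] at e
  generalize r * n0 = n at e m1 m2
  have q'y : n * q * n⁻¹ * y * (n * q * n⁻¹)⁻¹ = y⁻¹ := by
    have e0 : n * q * n⁻¹ * (n * y * n⁻¹) * (n * q * n⁻¹)⁻¹ = (n * y * n⁻¹)⁻¹ := by
      calc _ = n * (q * y * q⁻¹) * n⁻¹ := by group
        _ = _ := by rw [qy]; group
    obtain ⟨j, hj⟩ : y ∈ zpowers (n * y * n⁻¹) :=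
      mem_zpowers_of_prime y3 (by simpa using hy.ne_one (by decide +kernel)) e
    rw [← hj, ← conj_zpow, e0, inv_zpow]
  have q's : n * q * n⁻¹ * s * (n * q * n⁻¹)⁻¹ = s := by
    calc _ = n * q * n⁻¹ * (n * z * n⁻¹) * (n * q * n⁻¹)⁻¹ := by rw [m1]
      _ = n * (q * z * q⁻¹) * n⁻¹ := by group
      _ = _ := by rw [qz, m1]
  have q'z : n * q * n⁻¹ * z * (n * q * n⁻¹)⁻¹ = z * s := by
    have : n * q * n⁻¹ * (z * s) * (n * q * n⁻¹)⁻¹ = s * (z * s) := by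
      calc _ = n * q * n⁻¹ * (n * s * n⁻¹) * (n * q * n⁻¹)⁻¹ := by rw [m2]
        _ = n * (q * s * q⁻¹) * n⁻¹ := by group
        _ = _ := by rw [qs, ← conj_mul, m1, m2]
    rw [← conj_mul, q's, ← mul_assoc s, mul_left_inj] at this
    rw [this, zs]
  have q'2 : n * q * n⁻¹ * (n * q * n⁻¹) = 1 := by rw [conj_mul, q2]; simp
  generalize n * q * n⁻¹ = q' at q'y q's q'z q'2
  have c4 : ∀ u, q * q' * u * (q * q')⁻¹ = q * (q' * u * q'⁻¹) * q⁻¹ := fun u => by group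
  have wz : q * q' * z * (q * q')⁻¹ = s := by rw [c4, q'z, ← conj_mul, qz, qs, ← mul_assoc, h.sq, one_mul]
  have ws : q * q' * s * (q * q')⁻¹ = z * s := by rw [c4, q's, qs]
  have wy : q * q' * y * (q * q')⁻¹ = y := by rw [c4, q'y, ← conj_inv, qy, inv_inv]
  have wq : q * (q * q') * q⁻¹ = (q * q')⁻¹ := by
    rw [← mul_assoc, q2, one_mul, mul_inv_rev, inv_eq_of_mul_eq_one_right q'2]
  generalize q * q' = w at wz ws wy wq
  obtain ⟨r, m, hm, o⟩ := Nat.exists_eq_pow_mul_and_not_dvd (orderOf_pos w).ne' 3 (by norm_num)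
  obtain ⟨j, hj⟩ : ∃ j, m * m = 3 * j + 1 := ⟨m * m / 3, by
    rcases (by omega : m % 3 = 1 ∨ m % 3 = 2) with e | e <;> have := Nat.mul_mod m m 3 <;> rw [e] at this <;> omega⟩
  have c5 : ∀ u, w ^ 3 * u * (w ^ 3)⁻¹ = w * (w * (w * u * w⁻¹) * w⁻¹) * w⁻¹ := fun u => by
    rw [pow_three]; group
  have wzs : w * (z * s) * w⁻¹ = z := by rw [← conj_mul, wz, ws, zs, ← mul_assoc, s2, one_mul]
  have k : ∀ u, w ^ 3 * u * (w ^ 3)⁻¹ = u → w ^ (m * m) * u * (w ^ (m * m))⁻¹ = w * u * w⁻¹ := fun u e => by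
    rw [hj, pow_succ', pow_mul, mul_assoc w, ((show Commute _ u from mul_inv_eq_iff_eq_mul.1 e).pow_left j).eq]
    group
  refine ⟨w ^ (m * m), r, ?_, by rw [k _ (by rw [c5, wz, ws, wzs]), wz], by rw [k _ (by rw [c5, ws, wzs, wz]), ws],
    Commute.pow_left (mul_inv_eq_iff_eq_mul.1 wy) _, by rw [← conj_pow, wq, inv_pow], qy⟩
  rw [← pow_mul, mul_assoc, mul_comm m (3 ^ r), ← o, mul_comm, pow_mul, pow_orderOf_eq_one, one_pow]

theorem rel_z {y γ : G} (c1 : γ * z = z * γ) (c2 : y * z = z * y) : Rl y (γ * z) = Rl y γ * z := by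
  have c3 : y⁻¹ * z = z * y⁻¹ := Commute.inv_left c2
  have e : ∀ u, z * (z * u) = u := fun u => by rw [← mul_assoc, h.sq, one_mul]
  have e1 : ∀ {u}, u * z = z * u → ∀ v, u * (z * v) = z * (u * v) := fun c v => by rw [← mul_assoc, c, mul_assoc]
  simp only [Rl, mul_assoc, c1, c2, e1 c1, e1 c2, e1 c3, e]

theorem exists_rel {y : G} {Y : S10} (hy : Ov φ y Y) (h1 : Perm.sign η = 1) (h2 : Rl Y η = 1) :
    ∃ γ, Ov φ γ η ∧ Rl y γ = 1 := by
  obtain ⟨γ, o⟩ := h.lift h1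
  rcases h.of_one (g := Rl y γ) (h2 ▸ (o.mul (hy.conj o)).mul ((hy.inv.mul o).mul hy)) with e | e
  · exact ⟨γ, o, e⟩
  · exact ⟨γ * z, mul_one η ▸ o.mul h.ovz, by rw [h.rel_z o.comm hy.comm, e, h.sq]⟩

theorem ten (c : Commute z (g * z * g⁻¹)) : g * z * g⁻¹ = z := by
  by_contra n
  have := Fact.mk Nat.prime_three
  obtain ⟨a, ha, a3⟩ := h.exists_cube (a := 0) (b := 1) (c := 2) (by decide)
  obtain ⟨b, hb, b3⟩ := h.exists_cube (a := 3) (b := 4) (c := 5) (by decide)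
  obtain ⟨d, hd, d3⟩ := h.exists_cube (a := 6) (b := 7) (c := 8) (by decide)
  change Ov φ a pa at ha
  change Ov φ b pb at hb
  change Ov φ d pc at hd
  have ab := h.comm_cube ha hb (by decide +kernel) b3
  have ad := h.comm_cube ha hd (by decide +kernel) d3
  have bd := h.comm_cube hb hd (by decide +kernel) d3
  have k1 : ∀ u, u * a * u⁻¹ * z = z * (u * a * u⁻¹) → u * z = z * u := fun u e => by
    have e1 : u⁻¹ * z * u⁻¹⁻¹ * a = a * (u⁻¹ * z * u⁻¹⁻¹) := by simpa [mul_assoc] using (Commute.conj e u⁻¹).eq.symm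
    have := (h.only ha a3 (by decide +kernel) (by decide +kernel) _ (mem_cent_iff.1 (h.cent_a c n ha a3
      (mem_cent_iff.2 e1))) e1 (by rw [conj_mul, h.sq]; simp)).resolve_left (conj_eq_one_iff.not.2 h.ne)
    simpa using (show Commute _ z from mul_inv_eq_iff_eq_mul.1 this).inv_left.eq
  set E := H41.A9.E3 ab ad bd a3 b3 d3
  have oE : ∀ i j k : Fin 3, Ov φ (a ^ i.1 * b ^ j.1 * d ^ k.1) (pe i j k) := fun i j k =>
    ((ha.pow i).mul (hb.pow j)).mul (hd.pow k)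
  have cE : Nat.card E = 3 ^ 3 := by
    have : Nat.card E = Nat.card (Set.range fun p : Fin 3 × Fin 3 × Fin 3 => a ^ p.1.1 * b ^ p.2.1.1 * d ^ p.2.2.1) :=
      Nat.card_congr (Equiv.setCongr (Set.ext fun x => H41.A9.mem_E3.trans
        ⟨fun ⟨i, j, k, e⟩ => ⟨(i, j, k), e.symm⟩, fun ⟨p, e⟩ => ⟨_, _, _, e.symm⟩⟩))
    rw [this, Nat.card_range_of_injective fun p q e => (by decide +kernel : ∀ p q : Fin 3 × Fin 3 × Fin 3,
      pe p.1 p.2.1 p.2.2 = pe q.1 q.2.1 q.2.2 → p = q) p q ((oE _ _ _).uniq' (oE _ _ _) e)]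
    simp
  have hy := ha.mul hb
  have y3 : (a * b) ^ 3 = 1 := by rw [ab.mul_pow, a3, b3, one_mul]
  have e3 : ∀ i j k : Fin 3, (a ^ i.1 * b ^ j.1 * d ^ k.1) ^ 3 = 1 := fun i j k => by
    rw [((ad.pow_pow _ _).mul_left (bd.pow_pow _ _)).mul_pow, (ab.pow_pow _ _).mul_pow, ← pow_mul, ← pow_mul,
      ← pow_mul, mul_comm i.1, mul_comm j.1, mul_comm k.1, pow_mul, pow_mul, pow_mul, a3, b3, d3]
    simp
  have cm : ∀ {x ξ}, Ov φ x ξ → x ^ 3 = 1 → (∀ i j k, pe i j k * ξ = ξ * pe i j k) → E ≤ centralizer {x} :=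
    fun o x3 f u hu => by
      obtain ⟨i, j, k, rfl⟩ := H41.A9.mem_E3.1 hu
      exact mem_cent_iff.2 (h.comm_cube (oE i j k) o (f i j k) x3)
  have Ez : ∀ u ∈ E, u * z = z * u := fun u hu => by
    obtain ⟨i, j, k, rfl⟩ := H41.A9.mem_E3.1 hu
    exact (oE i j k).comm
  have aE : a ∈ E := ⟨1, 0, 0, by simp⟩
  have Ey := cm hy y3 (by decide +kernel)
  generalize a * b = y at hy y3 Ey
  have syl : ∀ M, E ≤ M → M ≤ centralizer {y} → ∀ x ∈ M, ∀ r, x ^ 3 ^ r = 1 → ∃ m ∈ M, m * x * m⁻¹ ∈ E :=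
    fun M h1 h2 x hx r e => by
      obtain ⟨m, hm, e⟩ := H4.exists_conj_le_of_not_dvd_relIndex (K := M) (IsPGroup.of_card cE) (fun f => by
        have c1 : Nat.card (E.subgroupOf M) = 3 ^ 3 := (Nat.card_congr (subgroupOfEquivOfLe h1).toEquiv).trans cE
        have c2 := Sylow.prime_pow_dvd_card_normalizer (by
          rw [← (E.subgroupOf M).card_mul_index, c1]; exact Nat.mul_dvd_mul_left _ f) c1
        rw [← card_map_of_injective (subtype_injective M)] at c2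
        have := c2.trans (h.card_cent hy (by
          rintro _ ⟨u, hu, rfl⟩
          exact ⟨mem_cent_iff.2 (k1 u (Ez _ (conj_mem_of_norm hu ⟨a, h1 aE⟩ aE))), h2 u.2⟩))
        rw [AD.card_cent (p := 3) (k := 1) (by decide +kernel) (by decide +kernel)] at this
        exact absurd this (by decide +kernel)) (H9.isPGroup_zpowers_of_pow e) (zpowers_le.2 hx)
      exact ⟨m, hm, e x (mem_zpowers x)⟩
  obtain ⟨s, hs⟩ := h.lift (σ := ps) (by decide +kernel)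
  obtain ⟨q, hq⟩ := h.lift (σ := pq) (by decide +kernel)
  obtain ⟨w, r, w3, wz, ws, wy, qw, qy⟩ := h.exists_w c n hs hy y3 hq
  obtain ⟨m, hm, e⟩ := syl _ Ey le_rfl w⁻¹ (mem_cent_iff.2 wy.inv_left) r (by rw [inv_pow, w3, inv_one])
  obtain ⟨i, j, k, e⟩ := H41.A9.mem_E3.1 e
  have o := e ▸ oE i j k
  have my : Commute m y := mem_cent_iff.1 hm
  have w3' := e ▸ e3 i j k
  have w3 : w ^ 3 = 1 := by rwa [conj_pow, conj_eq_one_iff, inv_pow, inv_eq_one] at w3'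
  have nz : ∀ l : ℕ, ¬ Commute (w⁻¹ * y ^ l) z := fun l f => h.ne_z hs (by decide +kernel) (by
    have := (f.mul_left (Commute.pow_left hy.comm l).inv_left).inv_left
    rw [← wz, mul_inv_eq_iff_eq_mul]
    simpa using this.eq)
  have cu : ∀ l : ℕ, m * w⁻¹ * m⁻¹ * y ^ l = m * (w⁻¹ * y ^ l) * m⁻¹ := fun l => by
    rw [mul_assoc _ m⁻¹, (my.inv_left.pow_right l).eq]; group
  have u3 : ∀ l : ℕ, (m * w⁻¹ * m⁻¹ * y ^ l) ^ 3 = 1 := fun l => by
    rw [cu, conj_pow, (wy.inv_left.pow_right l).mul_pow, inv_pow, w3, ← pow_mul, mul_comm l, pow_mul, y3]; simp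
  have k0 : ∀ l : ℕ, pe i j k * (pa * pb) ^ l ≠ 1 := fun l f => nz l (by
    have := h.eq_of_cube Ov.one (f ▸ o.mul (hy.pow l)) (one_pow 3) (u3 l)
    rw [cu, conj_eq_one_iff] at this
    simp [this])
  obtain ⟨α, hα, rα⟩ := h.exists_rel (η := al) hy (by decide +kernel) (by decide +kernel)
  obtain ⟨β, hβ, rβ⟩ := h.exists_rel (η := be) hy (by decide +kernel) (by decide +kernel)
  have s2 := h.sq8 hs (by decide +kernel) (by decide +kernel)
  have rc : ∀ u γ, Commute u y → Rl y γ = 1 → Rl y (u * γ * u⁻¹) = 1 := fun u γ c e => by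
    have := congrArg (MulAut.conj u) e
    simpa only [Rl, map_mul, map_inv, map_one, MulAut.conj_apply, c.eq, mul_inv_cancel_right] using this
  have k7 : ∀ γ ξ, Ov φ γ ξ → Rl y γ = 1 → ξ ∈ [al, be] → (∃ i : Fin 3, w * γ * w⁻¹ = y ^ i.1 * α * (y ^ i.1)⁻¹) ∨
      ∃ i : Fin 3, w * γ * w⁻¹ = y ^ i.1 * β * (y ^ i.1)⁻¹ := fun γ ξ o r m => by
    obtain ⟨f1, f2, f5, f3, f4, -⟩ := albe m
    have g2 := h.sq8 o f1 f2
    obtain ⟨c1, c2⟩ := cV wz ws h.sq hs.comm.symm o.comm (comm_of_sq g2 s2 (h.sq8 (o.mul hs) f3 f4))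
    obtain ⟨σ, o'⟩ := exists_ov φ c1
    have r' := rc w γ wy r
    have g2' : w * γ * w⁻¹ * (w * γ * w⁻¹) = 1 := by rw [conj_mul, g2]; simp
    have un : ∀ {x v}, Ov φ x v → Rl y x = 1 → ∀ l : ℕ, σ = (pa * pb) ^ l * v * ((pa * pb) ^ l)⁻¹ →
        w * γ * w⁻¹ = y ^ l * x * (y ^ l)⁻¹ := fun ox rx l e =>
      (h.eq_or (e ▸ (hy.pow l).conj ox) o').resolve_right fun f => h.ne (by
        rwa [f, h.rel_z ((hy.pow l).conj ox).comm hy.comm, rc _ _ ((Commute.refl y).pow_left l) rx, one_mul] at r')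
    obtain ⟨l, v, hv, e⟩ := s7 (o'.comm_of hs c2) (o'.sq_one g2') (h.inv8 o' g2' (conj_eq_one_iff.not.2 (o.ne_one f5))
      fun f => h.ne (by
        rw [f, ← one_mul z, h.rel_z (by simp) hy.comm] at r'
        simpa [Rl] using r')) (((o'.mul (hy.conj o')).mul ((hy.inv.mul o').mul hy)).uniq' Ov.one r')
    rcases List.mem_pair.1 hv with rfl | rfl
    exacts [Or.inl ⟨l, un hα rα l e⟩, Or.inr ⟨l, un hβ rβ l e⟩]
  have ne : ∀ i j : ℕ, y ^ i * α * (y ^ i)⁻¹ ≠ y ^ j * β * (y ^ j)⁻¹ := fun i j e => by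
    rw [pow_eq_pow_mod i y3, pow_eq_pow_mod j y3] at e
    exact (by decide +kernel : ∀ i < 3, ∀ j < 3, (pa * pb) ^ i * al * ((pa * pb) ^ i)⁻¹ ≠
      (pa * pb) ^ j * be * ((pa * pb) ^ j)⁻¹) _ (Nat.mod_lt _ three_pos) _ (Nat.mod_lt _ three_pos)
      (((hy.pow _).conj hα).uniq' ((hy.pow _).conj hβ) e)
  have kα := k7 α al hα rα (by simp)
  have kβ := k7 β be hβ rβ (by simp)
  obtain ⟨l, eα⟩ := kα.resolve_right fun ⟨_, e⟩ => orb wy w3 ne kβ e
  obtain ⟨l', eβ⟩ := kβ.resolve_left fun ⟨_, e⟩ => orb wy w3 (fun i j => (ne j i).symm) kα.symm e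
  have k8 : ∀ {γ} {l : ℕ}, w * γ * w⁻¹ = y ^ l * γ * (y ^ l)⁻¹ → Commute (w⁻¹ * y ^ l) γ := fun {γ l} e => by
    refine mul_inv_eq_iff_eq_mul.1 ?_
    calc _ = w⁻¹ * (y ^ l * γ * (y ^ l)⁻¹) * w := by group
      _ = _ := by rw [← e]; group
  have k6 : ∀ γ ξ, Ov φ γ ξ → ξ ∈ [al, be] → ∀ l : ℕ, Commute (w⁻¹ * y ^ l) γ →
      (pe i j k * (pa * pb) ^ l).support.card = 6 := fun γ ξ oγ mξ l c => by_contra fun f => by
    obtain ⟨f1, f2, f5, -, -, f3, f4, f6⟩ := albe mξ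
    have g2 := h.sq8 oγ f1 f2
    have g2' : y * γ * y⁻¹ * (y * γ * y⁻¹) = 1 := by rw [conj_mul, g2]; simp
    have o' := o.mul (hy.pow l)
    have c' : Commute (w⁻¹ * y ^ l) y := wy.inv_left.mul_left ((Commute.refl y).pow_left l)
    have := Gn.no_four (s := m * γ * m⁻¹) (t := m * (y * γ * y⁻¹) * m⁻¹) h.sq h.ne o'.comm.symm
      (h.only o' (u3 l) (Perm.card_support_eq_zero.not.2 (k0 l)) f) (by rw [conj_mul, g2]; simp)
      (by rw [conj_mul, g2']; simp)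
      (Commute.conj (comm_of_sq g2 g2' (h.sq8 (oγ.mul (hy.conj oγ)) f3 f4)) m) (cu l ▸ c.symm.conj m)
      (cu l ▸ ((c'.mul_right c).mul_right c'.inv_right).symm.conj m) (conj_eq_one_iff.not.2 (oγ.ne_one f5))
      (conj_eq_one_iff.not.2 (conj_eq_one_iff.not.2 (oγ.ne_one f5)))
    exact f6 (oγ.uniq' (hy.conj oγ) (by simpa using this))
  obtain ⟨n1, n2⟩ := (two_six i j k l l' (fun f => nz l (by
    have := (k8 eα).mul_right (f ▸ k8 eβ)
    exact h.sq4 (hα.mul hβ) (by decide +kernel) (by decide +kernel) ▸ this.mul_right this))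
    (k6 α al hα (by simp) l (k8 eα)) (k6 β be hβ (by simp) l' (k8 eβ))).resolve_right (k0 _)
  have p1 : m * q * m⁻¹ * y * (m * q * m⁻¹)⁻¹ = y⁻¹ := by
    calc _ = m * (q * (m⁻¹ * y * m) * q⁻¹) * m⁻¹ := by group
      _ = _ := by rw [my.inv_left.eq, inv_mul_cancel_right, qy, my.inv_right.eq, mul_inv_cancel_right]
  have p2 : m * q * m⁻¹ * (m * w⁻¹ * m⁻¹) * (m * q * m⁻¹)⁻¹ = (m * w⁻¹ * m⁻¹)⁻¹ := by
    calc _ = m * (q * w * q⁻¹)⁻¹ * m⁻¹ := by group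
      _ = _ := by rw [qw]; group
  have Ee := cm o w3' ((by decide +kernel : ∀ i j k i' j' k', pe i' j' k' * pe i j k = pe i j k * pe i' j' k') i j k)
  generalize m * q * m⁻¹ = q at p1 p2
  generalize m * w⁻¹ * m⁻¹ = e at p2 o Ee
  have k9 : ∀ {x}, E ≤ centralizer {x} → q * x * q⁻¹ = x⁻¹ → q * a * q⁻¹ ∈ centralizer {x} := fun c f =>
    mem_cent_iff.2 (Commute.inv_right_iff.1 (f ▸ Commute.conj (mem_cent_iff.1 (c aE)) q))
  obtain ⟨u, hu, f⟩ := syl _ (le_inf Ey Ee) inf_le_left _ ⟨k9 Ey p1, k9 Ee p2⟩ 1 (Gn.conj_pow_eq_one a3 q)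
  obtain ⟨μ, oμ⟩ := exists_ov φ (k1 (u * q) (by simpa [mul_assoc] using Ez _ f))
  have k10 : ∀ {x ξ}, Ov φ x ξ → u ∈ centralizer {x} → q * x * q⁻¹ = x⁻¹ →
      swap 1 2 * swap 4 5 * swap 7 8 * ξ⁻¹ = ξ * (swap 1 2 * swap 4 5 * swap 7 8) →
      Commute (swap 1 2 * swap 4 5 * swap 7 8 * μ) ξ := fun {x ξ} ox c f t => by
    have := (oμ.conj ox).uniq' ox.inv (by
      calc _ = u * (q * x * q⁻¹) * u⁻¹ := by group
        _ = _ := by rw [f, (Commute.inv_right (mem_cent_iff.1 c)).eq, mul_inv_cancel_right])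
    rw [Commute, SemiconjBy, mul_assoc, mul_inv_eq_iff_eq_mul.1 this, ← mul_assoc, t, mul_assoc]
  have := cent_ye n1 n2 (k10 hy hu.1 p1 (by decide +kernel)) (k10 o hu.2 p2 ((by decide +kernel : ∀ i j k,
    swap 1 2 * swap 4 5 * swap 7 8 * (pe i j k)⁻¹ = pe i j k * (swap 1 2 * swap 4 5 * swap 7 8)) i j k))
  rw [map_mul, h.mem oμ] at this
  exact absurd this (by decide +kernel)

end DC

/-- an involution with centralizer `2.Aₙ`, `n ≠ 8, 11`, is isolated -/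
theorem isolated {n : ℕ} (hn : 4 ≤ n) (h8 : n ≠ 8) (h11 : n ≠ 11) (hz : orderOf z = 2)
    (h : Cfsg.IsNonsplitDoubleCover (centralizer ({z} : Set G)) (alternatingGroup (Fin n))) (g : G)
    (c : Commute z (g * z * g⁻¹)) : g * z * g⁻¹ = z := by
  obtain ⟨φ, h⟩ := exists_dc hn hz h
  rcases (by omega : n = 9 ∨ n = 10 ∨ n < 8 ∨ 12 ≤ n) with rfl | rfl | e
  exacts [(nine h).isolated_of_ker (fun k => (h.ker k).1) g c, h.ten c, h.big c (by rwa [Fintype.card_fin])]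

theorem eqns_main : True := by
  have := @Rl.eq_1.{0}
  trivial

end H27.AD
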