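import Cfsg.Agent.Lib.Alt27.Spin
/-! An involution with centralizer `2.Aₙ`, `n ≥ 12`, is isolated -/
set_option autoImplicit false
set_option linter.unusedSectionVars false
namespace H27.AD
open Subgroup Equiv H95

variable {G : Type*} [Group G] {α : Type} [DecidableEq α] [Fintype α] {z : G}
  {φ : centralizer ({z} : Set G) →* Perm α} {g s s' x : G} {σ σ' ξ η : Perm α} {a b c d : α}

theorem ap_comm (h : η * σ = σ * η) (x : α) : η (σ x) = σ (η x) := by rw [← Perm.mul_apply, h, Perm.mul_apply]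

theorem ia (η : Perm α) (x : α) : η⁻¹ (η x) = x := η.symm_apply_apply x

theorem ai (η : Perm α) (x : α) : η (η⁻¹ x) = x := η.apply_symm_apply x

theorem Ov.uniq' (h : Ov φ g σ) (h' : Ov φ x σ') (e : g = x) : σ = σ' := h.uniq (e ▸ h')

theorem nd6 (h : σ * σ = 1) (ha : σ a ≠ a) (hb : σ b ≠ b) (hc : σ c ≠ c) (h1 : b ≠ a ∧ b ≠ σ a)
    (h2 : c ≠ a ∧ c ≠ σ a) (h3 : c ≠ b ∧ c ≠ σ b) : [a, b, c, σ a, σ b, σ c].Nodup := by
  have := ii h a
  have := ii h b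
  have := ii h c
  simp only [List.nodup_cons, List.mem_cons, List.not_mem_nil, List.nodup_nil]
  grind

/-- the permutations fixing the support of `σ` pointwise -/
def Fx (σ : Perm α) : Subgroup (Perm α) where
  carrier := {η | ∀ x, σ x ≠ x → η x = x}
  one_mem' _ _ := rfl
  mul_mem' h h' x hx := by rw [Perm.mul_apply, h' x hx, h x hx]
  inv_mem' h x hx := Perm.inv_eq_iff_eq.2 (h x hx).symm

theorem Fx_conj (h : η * σ = σ * η) (hξ : ξ ∈ Fx σ) : η * ξ * η⁻¹ ∈ Fx σ := fun x hx => by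
  obtain ⟨x, rfl⟩ := η.surjective x
  rw [Perm.mul_apply, Perm.mul_apply, ia, hξ x fun e => hx (by rw [← ap_comm h, e])]

theorem Fx_self (h : σ ∈ Fx σ) : σ = 1 := Equiv.ext fun x => by_contra fun e => e (h x e)

/-- the pair of a point -/
def pr (σ : Perm α) (x : α) : Sym2 α := s(x, σ x)

theorem pr_iff (h : σ * σ = 1) : pr σ a = pr σ b ↔ a = b ∨ a = σ b := by
  have := ii h a
  have := ii h b
  rw [pr, pr, Sym2.eq_iff]
  grind

theorem pr_map (h : σ * σ = 1) (e : η * σ = σ * η) : pr σ (η a) = pr σ (η b) ↔ pr σ a = pr σ b := by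
  rw [pr_iff h, pr_iff h, ← ap_comm e, η.apply_eq_iff_eq, η.apply_eq_iff_eq]

theorem pr_fix {π : Perm α} (τ2 : σ * σ = 1) (cπ : π * σ = σ * π) (big : 12 < σ.support.card)
    (k : ∀ a b c, [a, b, c, σ a, σ b, σ c].Nodup → ∃ δ : Perm α, δ * σ = σ * δ ∧ δ a = b ∧ δ b = c ∧ δ c = a ∧
      (∀ y, (∀ t ∈ [a, b, c], y ≠ t ∧ y ≠ σ t) → δ y = y) ∧
      pr σ (π (δ (π (δ⁻¹ b)))) = pr σ (δ (π (δ⁻¹ (π b))))) {p : α} (hp : σ p ≠ p) : pr σ (π p) = pr σ p :=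
  by_contra fun hp' => by
  obtain ⟨C, hC, hC'⟩ := avoid (σ := σ) [p, π p, π⁻¹ p, π (π p)] (by simp; omega)
  obtain ⟨E, hE, hE'⟩ := avoid (σ := σ) [p, π p, C, π C, π (π C), π (π p)] (by simp; omega)
  obtain ⟨δ, cδ, d3, d4, d5, d6, u1⟩ := k p C E (nd6 τ2 hp hC hE (hC' _ (by simp)) (hE' _ (by simp)) (hE' _ (by simp)))
  simp only [← not_or, ← pr_iff τ2, List.forall_mem_cons, List.not_mem_nil, false_imp_iff, implies_true,
    and_true] at hC' hE' d6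
  simp only [not_or] at hC' hE' d6
  have m := fun a b => pr_map (a := a) (b := b) τ2 cπ
  have m' := fun a b => pr_map (a := a) (b := b) τ2 cδ
  have v1 : δ (π p) = π p := d6 _ ⟨hp', Ne.symm hC'.2.1, Ne.symm hE'.2.1⟩
  rw [← d3, ia, v1, d3] at u1
  by_cases u2 : pr σ (π C) = pr σ C
  · rw [← ai δ (π C), ← d3, m', ← m, ← m', d3, ← u1, v1, m] at u2
    exact hp' u2
  have u3 : pr σ (π C) ≠ pr σ p := fun e => hC'.2.2.1 (by rw [← m, e, ai])
  rw [Perm.inv_eq_iff_eq.2 (d6 (π C) ⟨u3, u2, Ne.symm hE'.2.2.2.1⟩).symm] at u1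
  by_cases u4 : pr σ (π (π p)) = pr σ p
  · rw [u4, ← d5, m'] at u1
    exact hE'.2.2.2.2.1 u1
  · rw [← d6 (π (π p)) ⟨u4, Ne.symm hC'.2.2.2, Ne.symm hE'.2.2.2.2.2⟩, m', m, m] at u1
    exact hC'.1 u1.symm

theorem pr_comm {π π' : Perm α} (τ2 : σ * σ = 1) (c : π * σ = σ * π) (c' : π' * σ = σ * π') (hp : σ a ≠ a)
    (h : pr σ (π a) = pr σ a) (h' : pr σ (π' a) = pr σ a) : π * π' ≠ σ * (π' * π) := fun e => by
  have k1 := DFunLike.congr_fun e a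
  have k2 := ap_comm c a
  have k3 := ap_comm c' a
  have := ii τ2 a
  rw [pr_iff τ2] at h h'
  simp only [Perm.mul_apply] at k1
  grind

/-- `z` is fused to `s` and `s'` -/
structure Fu (φ : centralizer ({z} : Set G) →* Perm α) (g s s' : G) (σ σ' : Perm α) : Prop where
  e1 : g * z * g⁻¹ = s
  e2 : g * s' * g⁻¹ = z
  o1 : Ov φ s σ
  o2 : Ov φ s' σ'
  ne : s ≠ z

theorem exists_fu (h1 : Commute z (g * z * g⁻¹)) (h2 : g * z * g⁻¹ ≠ z) : ∃ s s' σ σ', Fu φ g s s' σ σ' := by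
  obtain ⟨σ, a⟩ := exists_ov φ h1.eq.symm
  obtain ⟨σ', b⟩ := exists_ov φ (g := g⁻¹ * z * g⁻¹⁻¹) (by simpa [mul_assoc] using (h1.conj g⁻¹).eq)
  exact ⟨_, _, _, _, rfl, by group, a, b, h2⟩

theorem Fu.symm (f : Fu φ g s s' σ σ') : Fu φ g⁻¹ s' s σ' σ :=
  ⟨by rw [← f.e2]; group, by rw [← f.e1]; group, f.o2, f.o1, fun e => f.ne (by rw [← f.e1, ← e, f.e2, e])⟩

theorem Fu.tr (f : Fu φ g s s' σ σ') (h1 : Commute x z) (h2 : Commute x s') :
    Commute (g * x * g⁻¹) z ∧ Commute (g * x * g⁻¹) s := ⟨f.e2 ▸ h2.conj g, f.e1 ▸ h1.conj g⟩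

namespace DC
variable (h : DC z φ)
include h

theorem fu (f : Fu φ g s s' σ σ') : s * s = 1 ∧ σ * σ = 1 ∧ σ ≠ 1 ∧ 8 ∣ σ.support.card ∧ 8 ≤ σ.support.card := by
  have s2 : s * s = 1 := by rw [← f.e1, conj_mul, h.sq]; simp
  obtain ⟨a, b, c⟩ := h.invol f.o1 s2 (by rw [← f.e1]; simpa using h.ne) f.ne
  exact ⟨s2, a, by rintro rfl; simp at c, b, c⟩

theorem exists_x (hs : Ov φ s σ) (s2 : s * s = 1) (n : [a, b, c, σ a, σ b, σ c].Nodup) :
    ∃ x ξ, Ov φ x ξ ∧ x ^ 3 = 1 ∧ Commute x s ∧ ξ a = b ∧ ξ b = c ∧ ξ c = a ∧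
      ∀ y, (∀ t ∈ [a, b, c], y ≠ t ∧ y ≠ σ t) → ξ y = y := by
  obtain ⟨x, h1, c1⟩ := h.exists_cube (a := a) (b := b) (c := c) (by grind)
  have h2 := hs.conj h1
  rw [← conj_mul, ← swap_apply_apply, ← swap_apply_apply] at h2
  have c := h.comm_cube h2 h1 (Perm.Disjoint.commute fun y => by
    simp only [Perm.mul_apply, swap_apply_def]; grind).eq c1
  refine ⟨_, _, h1.mul h2, by rw [c.symm.mul_pow, c1, Gn.conj_pow_eq_one c1, one_mul], ?_, ?_⟩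
  · refine (mul_inv_eq_iff_eq_mul.1 ?_).symm
    rw [← conj_mul, c.symm.eq, mul_right_inj, ← mul_assoc, ← mul_assoc, s2, one_mul, mul_assoc, ← mul_inv_rev, s2,
      inv_one, mul_one]
  · simp only [Perm.mul_apply, swap_apply_def]; grind

theorem sq_comm (hs : Ov φ s σ) (s2 : σ * σ = 1) (hx : Ov φ x ξ) (x3 : x ^ 3 = 1) (c : Commute x s) (ha : σ a ≠ a)
    (ha' : ξ a ≠ a) : ∃ e, Ov φ e (swap a (σ a) * swap (ξ a) (σ (ξ a))) ∧ e * e = z ∧ Commute e s ∧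
      (x * e * x⁻¹ * e⁻¹) * (x * e * x⁻¹ * e⁻¹) = z := by
  have c' := hx.comm_of hs c
  have e3 : ∀ y, ξ (ξ (ξ y)) = y := fun y => by simpa [pow_three] using DFunLike.congr_fun (hx.pow_one x3) y
  have i1 := ii s2
  have i2 := ap_comm c'
  have j1 : σ (ξ a) ≠ ξ a := fun e => ha (ξ.injective (by rw [i2, e]))
  have j2 : σ (ξ (ξ a)) ≠ ξ (ξ a) := fun e => j1 (ξ.injective (by rw [i2, e]))
  have j3 : ξ a ≠ σ a := fun e => ha' (by have := e3 a; rwa [e, i2, e, i1] at this)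
  have j4 : [ξ (ξ a), σ (ξ (ξ a)), a, σ a].Nodup := by
    have := e3 a
    have := i1 a
    have := i1 (ξ a)
    have := i1 (ξ (ξ a))
    have := i2 a
    simp only [List.nodup_cons, List.mem_cons, List.not_mem_nil, List.nodup_nil]
    grind
  obtain ⟨e, h1, h2, h3, -⟩ := h.exists_e hs s2 ha j1 ha' j3
  refine ⟨e, h1, h2, h3, h.sq_dt j4 ?_⟩
  have := (hx.conj h1).mul h1.inv
  rwa [← conj_mul, conj_tp c', conj_tp c', tp_tp s2 (ξ a), mul_inv_rev, swap_inv, swap_inv,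
    mul_assoc (swap _ _), swap_mul_self_mul] at this

theorem case_fix (f : Fu φ g s s' σ σ') (n : [a, b, c, d].Nodup) (ha : σ a = a) (hb : σ b = b) (hc : σ c = c)
    (hd : σ d = d) : False := by
  obtain ⟨-, t2, t1, -⟩ := h.fu f.symm
  have key : ∀ {a b c : α}, [a, b, c].Nodup → σ a = a → σ b = b → σ c = c → ∃ x, Ov φ x (swap a b * swap b c) ∧
      ∃ ξ ∈ Fx σ', Ov φ (g⁻¹ * x * g⁻¹⁻¹) ξ := fun {a b c} n ha hb hc => by
    obtain ⟨x, h1, c1⟩ := h.exists_cube n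
    have c0 := h.comm_cube f.o1 h1 (by
      rw [← mul_assoc, mul_swap_eq_swap_mul σ, mul_assoc, mul_swap_eq_swap_mul σ, ha, hb, hc, mul_assoc]) c1
    obtain ⟨c2, c3⟩ := f.symm.tr h1.comm c0.symm
    obtain ⟨ξ, h2⟩ := exists_ov φ c2
    refine ⟨x, h1, ξ, fun p hp => by_contra fun hp' => (h.fu f).2.2.1 (Fx_self ?_), h2⟩
    obtain ⟨e, e1, -, e2, e3⟩ := h.sq_comm f.o2 t2 h2 (Gn.conj_pow_eq_one c1 _) c3 hp hp'
    obtain ⟨c4, c5⟩ := f.tr e1.comm e2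
    obtain ⟨ε, h3⟩ := exists_ov φ c4
    have m : swap a b * swap b c ∈ Fx σ := fun y hy => by
      have q : ∀ {a}, σ a = a → y ≠ a := fun e f => hy (f ▸ e)
      rw [Perm.mul_apply, swap_apply_of_ne_of_ne (q hb) (q hc), swap_apply_of_ne_of_ne (q ha) (q hb)]
    have m' := mul_mem m (Fx_conj (h3.comm_of f.o1 c5) (inv_mem m))
    have o := h1.mul (h3.conj h1.inv)
    have := mul_mem m' m'
    rwa [(o.mul o).uniq' f.o1 (by rw [← f.e1, ← e3]; group)] at this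
  obtain ⟨x1, h1, ξ1, m1, o1⟩ := key (a := a) (b := b) (c := c) (by grind) ha hb hc
  obtain ⟨x2, h2, ξ2, m2, o2⟩ := key (a := b) (b := c) (c := d) (by grind) hb hc hd
  have h3 := h1.mul h2
  rw [mul_assoc, swap_mul_self_mul] at h3
  have o := o1.mul o2
  have := mul_mem (mul_mem m1 m2) (mul_mem m1 m2)
  rw [(o.mul o).uniq' f.o2 (by rw [← f.symm.e1, ← h.sq_dt n h3]; group)] at this
  exact t1 (Fx_self this)

theorem case_big (f : Fu φ g s s' σ σ') (big : 12 < σ'.support.card) : False := by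
  obtain ⟨s2, σ2, -, -, s8⟩ := h.fu f
  obtain ⟨t2, τ2, t1, -⟩ := h.fu f.symm
  obtain ⟨a, ha, -⟩ := avoid (σ := σ) [] (by rw [List.length_nil]; omega)
  obtain ⟨b, hb, hb'⟩ := avoid (σ := σ) [a] (by simp; omega)
  obtain ⟨c, hc, hc'⟩ := avoid (σ := σ) [a, b] (by simp; omega)
  obtain ⟨x, ξ, h1, x3, c1, h2, -⟩ := h.exists_x f.o1 s2
    (nd6 σ2 ha hb hc (hb' _ (by simp)) (hc' _ (by simp)) (hc' _ (by simp)))
  obtain ⟨e, e1, e2, e3, e4⟩ := h.sq_comm (a := a) f.o1 σ2 h1 x3 c1 ha (h2 ▸ (hb' _ (by simp)).1)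
  obtain ⟨π, hπ⟩ := exists_ov φ (f.symm.tr e1.comm e3).1
  have cπ := hπ.comm_of f.o2 (f.symm.tr e1.comm e3).2
  have k0 : ∀ d, Commute d z → Commute d s → e * (d * e * d⁻¹) * (d * e * d⁻¹ * e)⁻¹ = 1 ∨
      e * (d * e * d⁻¹) * (d * e * d⁻¹ * e)⁻¹ = z := fun d d1 d2 => by
    obtain ⟨δ, hδ⟩ := exists_ov φ d1
    have := (e1.mul (hδ.conj e1)).mul ((hδ.conj e1).mul e1).inv
    rw [← conj_mul (a := swap _ _), conj_tp (hδ.comm_of f.o1 d2), conj_tp (hδ.comm_of f.o1 d2),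
      (((tp_tp σ2 _ _).mul_left (tp_tp σ2 _ _)).mul_right ((tp_tp σ2 _ _).mul_left (tp_tp σ2 _ _))).eq,
      mul_inv_cancel] at this
    exact h.of_one this
  have k1 : ∀ d δ, Ov φ d δ → Commute d s' → ∀ y,
      pr σ' (π (δ (π (δ⁻¹ y)))) = pr σ' (δ (π (δ⁻¹ (π y)))) := fun d δ d1 d2 y => by
    have o := (hπ.mul (d1.conj hπ)).mul ((d1.conj hπ).mul hπ).inv
    rw [pr_iff τ2]
    refine (k0 _ (f.tr d1.comm d2).1 (f.tr d1.comm d2).2).imp (fun e => ?_) fun e => ?_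
    · exact DFunLike.congr_fun (mul_inv_eq_one.1 (o.uniq' (Ov.one (φ := φ)) (by
        rw [← conj_eq_one_iff (a := g), ← e]; group))) y
    · exact DFunLike.congr_fun (mul_inv_eq_iff_eq_mul.1 (o.uniq' f.o2 (by rw [← f.symm.e1, ← e]; group))) y
  have k2 := @pr_fix _ _ _ _ _ τ2 cπ big fun a b c n =>
    let ⟨d, δ, d1, _, d2, d3, d4, d5, d6⟩ := h.exists_x f.o2 t2 n
    ⟨δ, d1.comm_of f.o2 d2, d3, d4, d5, d6, k1 d δ d1 d2 b⟩
  obtain ⟨c2, c3⟩ := f.symm.tr h1.comm c1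
  obtain ⟨δ, d1⟩ := exists_ov φ c2
  have cδ := d1.comm_of f.o2 c3
  have o := (hπ.mul (d1.conj hπ)).mul ((d1.conj hπ).mul hπ).inv
  have k3 := (k0 x h1.comm c1).resolve_left fun e5 => h.ne (by
    rw [← e4, ← _root_.sq, (show Commute e _ from mul_inv_eq_one.1 e5).symm.inv_right.mul_pow, inv_pow, conj_pow,
      _root_.sq, e2, h1.comm]; simp)
  obtain ⟨p, hp : σ' p ≠ p⟩ := not_forall.1 (mt Equiv.ext t1)
  refine pr_comm τ2 cπ (((show Commute δ σ' from cδ).mul_left cπ).mul_left (Commute.inv_left cδ)) hp (k2 hp) ?_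
    (mul_inv_eq_iff_eq_mul.1 (o.uniq' f.o2 (by rw [← f.symm.e1, ← k3]; group)))
  obtain ⟨p, rfl⟩ := δ.surjective p
  rw [Perm.mul_apply, Perm.mul_apply, ia, pr_map τ2 cδ]
  exact k2 fun e => hp (by rw [← ap_comm cδ, e])

theorem big (h1 : Commute z (g * z * g⁻¹)) (hn : Fintype.card α < 8 ∨ 12 ≤ Fintype.card α) : g * z * g⁻¹ = z := by
  by_contra h2
  obtain ⟨s, s', σ, σ', f⟩ := exists_fu (φ := φ) h1 h2
  obtain ⟨-, -, -, s8, s8'⟩ := h.fu f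
  have := σ.support.card_le_univ
  have := Finset.card_add_card_compl σ.support
  by_cases h3 : 12 < σ.support.card
  · exact h.case_big f.symm h3
  obtain ⟨a, ha, b, hb, c, hc, d, hd, n⟩ := Finset.three_lt_card.1 (show 3 < σ.supportᶜ.card by omega)
  simp only [Finset.mem_compl, Perm.notMem_support] at ha hb hc hd
  exact h.case_fix (a := a) (b := b) (c := c) (d := d) f (by grind) ha hb hc hd

end DC

theorem eqns_big : True := by
  have := @Fx.eq_1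
  have := @pr.eq_1
  trivial

end H27.AD
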