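import Cfsg.Agent.Lib.Alt27.Big
import Cfsg.Agent.Lib.Core2.NineB
import Cfsg.Agent.Lib.FGS.OrbitCong
/-! Permutations of ten points -/
set_option autoImplicit false
set_option linter.unusedSectionVars false
set_option synthInstance.maxSize 100000
namespace H27.AD
open Subgroup Equiv H95

theorem comm_of_sq {G : Type*} [Group G] {u v : G} (hu : u * u = 1) (hv : v * v = 1) (h : u * v * (u * v) = 1) :
    u * v = v * u := by
  rw [eq_inv_of_mul_eq_one_left h, mul_inv_rev, inv_eq_of_mul_eq_one_right hu, inv_eq_of_mul_eq_one_right hv]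

section gen
variable {α : Type} [DecidableEq α] [Fintype α] {p q r s : α} {w η μ : Perm α}

theorem fix_iff (h : μ * η = η * μ) (x : α) : η (μ x) = μ x ↔ η x = x := by
  rw [← ap_comm h, μ.apply_eq_iff_eq]

theorem comm_of_fix (hp : w p = p) (hq : w q = q) (hr : w r = r) (hs : w s = s) :
    w * (swap p q * swap r s) = swap p q * swap r s * w := by
  rw [← mul_assoc, mul_swap_eq_swap_mul w, mul_assoc, mul_swap_eq_swap_mul w, hp, hq, hr, hs, mul_assoc]

theorem fix1 (n : [p, q, r, s].Nodup) (ho : Odd (orderOf w))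
    (h : w * (swap p q * swap r s) = swap p q * swap r s * w) : w p = p := by
  simp only [List.nodup_cons, List.mem_cons, List.not_mem_nil, List.nodup_nil] at n
  have u : ∀ x, (swap p q * swap r s) x = if x = p then q else if x = q then p else if x = r then s else
      if x = s then r else x := fun x => by rw [Perm.mul_apply, swap_apply_def, swap_apply_def]; grind
  have h1 := fix_iff h p
  have h2 := fix_iff h r
  have h3 := ap_comm h p
  have h4 := ap_comm h r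
  have h5 := w.apply_eq_iff_eq (x := p) (y := r)
  have h6 := w.apply_eq_iff_eq (x := p) (y := s)
  simp only [u] at h1 h2 h3 h4
  have : w * w * (w * w) ∈ MulAction.stabilizer (Perm α) p := by
    show w (w (w (w p))) = p
    grind
  exact Gn.mem_of_sq (K := MulAction.stabilizer (Perm α) p) ho (Gn.mem_of_sq
    (ho.of_dvd_nat (by rw [← sq]; exact orderOf_pow_dvd 2)) this)

theorem fix4 (n : [p, q, r, s].Nodup) (ho : Odd (orderOf w))
    (h : w * (swap p q * swap r s) = swap p q * swap r s * w) : w p = p ∧ w q = q ∧ w r = r ∧ w s = s := by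
  have c := (Perm.disjoint_swap_swap n).commute.eq
  exact ⟨fix1 n ho h, fix1 (q := p) (r := r) (s := s) (by grind) ho (by rwa [swap_comm q]),
    fix1 (q := s) (r := p) (s := q) (by grind) ho (by rwa [← c]),
    fix1 (q := r) (r := p) (s := q) (by grind) ho (by rwa [swap_comm s, ← c])⟩

theorem fixV {W : Subgroup (Perm α)} (hW : Odd (Nat.card W)) (n : [p, q, r, s].Nodup)
    (h1 : swap p q * swap r s ∈ normalizer (W : Set (Perm α)))
    (h2 : swap p r * swap q s ∈ normalizer (W : Set (Perm α))) :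
    ∀ w ∈ W, w p = p ∧ w q = q ∧ w r = r ∧ w s = s := by
  have n2 : [p, r, q, s].Nodup := by grind
  have n3 : [p, s, q, r].Nodup := by grind
  have o : ∀ w ∈ W, Odd (orderOf w) := fun w hw => hW.of_dvd_nat (W.orderOf_dvd_natCard hw)
  have e : swap p q * swap r s * (swap p r * swap q s) = swap p s * swap q r := by
    ext x; simp only [Perm.mul_apply, swap_apply_def]; grind
  have ne : ∀ {a b c d : α}, [a, b, c, d].Nodup → swap a b * swap c d ≠ 1 := fun n e => by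
    simpa [e] using card_dt n
  have c := H24.ZD.card_four (dt_sq n) (dt_sq n2) (comm_of_sq (dt_sq n) (dt_sq n2) (e ▸ dt_sq n3)) (ne n) (ne n2) (fun f => ne n3 (by
      rw [← e, f, dt_sq n2])) hW h1 h2
  have k : ∀ v, (∀ w ∈ W, w * v = v * w → w p = p ∧ w q = q ∧ w r = r ∧ w s = s) → Nat.card ↥(W ⊓ centralizer {v}) ≤
      Nat.card ↥(W ⊓ centralizer {swap p q * swap r s} ⊓ centralizer {swap p r * swap q s}) := fun v hv =>
    card_le_of_le fun w hw => let ⟨a, b, c, d⟩ := hv w hw.1 (mem_cent_iff.1 hw.2)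
      ⟨⟨hw.1, mem_cent_iff.2 (comm_of_fix a b c d)⟩, mem_cent_iff.2 (comm_of_fix a c b d)⟩
  have k1 := Nat.mul_le_mul (Nat.mul_le_mul (k _ fun w hw => fix4 n (o w hw)) (k _ fun w hw f =>
    let ⟨a, b, c, d⟩ := fix4 n2 (o w hw) f; ⟨a, c, b, d⟩)) (k _ fun w hw f =>
    let ⟨a, b, c, d⟩ := fix4 n3 (o w hw) (e ▸ f); ⟨a, c, d, b⟩)
  rw [← c, ← sq, mul_comm (_ ^ 2)] at k1
  have := eq_of_le_of_card_ge (inf_le_left.trans inf_le_left) (Nat.le_of_mul_le_mul_right k1 (pow_pos Nat.card_pos 2))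
  exact fun w hw => fix4 n (o w hw) (mem_cent_iff.1 (this.ge hw).1.2)

end gen

abbrev S10 := Perm (Fin 10)

theorem supp6 {δ η : S10} (d2 : δ * δ = 1) (d8 : δ.support.card = 8) (h3 : η ^ 3 = 1) (c : η * δ = δ * η) :
    η.support.card = 0 ∨ η.support.card = 6 := by
  have e3 : ∀ y, η (η (η y)) = y := fun y => by simpa [pow_three] using DFunLike.congr_fun h3 y
  have h1 : η.support ⊆ δ.support := fun p hp => by
    rw [Perm.mem_support] at hp ⊢
    intro e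
    have := Finset.card_add_card_compl δ.support
    have : 2 < δ.supportᶜ.card := Finset.two_lt_card_iff.2 ⟨p, η p, η (η p), by simpa,
      by simpa [fix_iff c], by simpa [fix_iff c], hp.symm, fun f => hp (by rw [f, e3, ← f]), by simpa using hp.symm⟩
    rw [Fintype.card_fin] at *
    omega
  have key : ∑ _j ∈ η.support, (1 : ZMod 2) = 0 :=
    Finset.sum_involution (fun j _ => δ j) (fun _ _ => by decide) (fun j hj _ => Perm.mem_support.1 (h1 hj))
      (fun j hj => by rwa [Perm.mem_support, Ne, fix_iff c.symm, ← Ne, ← Perm.mem_support]) fun j _ => ii d2 j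
  rw [Finset.sum_const, nsmul_eq_mul, mul_one, ZMod.natCast_eq_zero_iff] at key
  have := Fact.mk Nat.prime_three
  have := dvd_supp h3
  have := Finset.card_le_card h1
  omega

def pa : S10 := swap 0 1 * swap 1 2
def pb : S10 := swap 3 4 * swap 4 5
def pc : S10 := swap 6 7 * swap 7 8
def ps : S10 := swap 0 3 * swap 1 4 * swap 2 5 * swap 6 7
def pq : S10 := swap 0 3 * swap 1 5 * swap 2 4 * swap 6 7
def pt : S10 := swap 1 2 * swap 3 4 * swap 5 6 * swap 7 8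
def pf : S10 := swap 3 4 * swap 4 5 * swap 5 6 * swap 6 7 * swap 7 8 * swap 8 9
def al : S10 := swap 0 1 * swap 3 4 * swap 2 6 * swap 5 7
def be : S10 := swap 0 1 * swap 3 4 * swap 2 7 * swap 5 6
def pe (i j k : Fin 3) : S10 := pa ^ i.1 * pb ^ j.1 * pc ^ k.1

theorem s7k : ∀ i0, ps i0 ≠ i0 → ∀ i1, ps i1 ≠ i1 → i1 ≠ i0 → i1 ≠ ps i0 → ∀ i2, ps i2 ≠ i2 → i2 ≠ i0 → i2 ≠ ps i0 →
    i2 ≠ i1 → i2 ≠ ps i1 → ∀ i6, ps i6 ≠ i6 → ∀ i8, ps i8 = i8 → ∀ i9, ps i9 = i9 → i9 ≠ i8 →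
    let f := fun x : Fin 10 => [i0, i1, i2, ps i0, ps i1, ps i2, i6, ps i6, i8, i9].getD x 0
    (∀ x, f (f x) = x) → (∀ x, f ((pa * pb) (f ((pa * pb) (f ((pa * pb) x))))) = x) → f 6 = 6 ∧ f 8 = 8 ∧ f 9 = 9 ∨
    ∃ i : Fin 3, ∃ v ∈ [al, be], ∀ x, f x = ((pa * pb) ^ i.1 * v * ((pa * pb) ^ i.1)⁻¹) x := by
  decide +kernel

theorem s7 {γ : S10} (h1 : γ * ps = ps * γ) (h2 : γ * γ = 1) (h3 : γ.support.card = 8)
    (h4 : γ * (pa * pb * γ * (pa * pb)⁻¹) * ((pa * pb)⁻¹ * γ * (pa * pb)) = 1) :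
    ∃ i : Fin 3, ∃ v ∈ [al, be], γ = (pa * pb) ^ i.1 * v * ((pa * pb) ^ i.1)⁻¹ := by
  have c := ap_comm h1
  have e : ∀ x : Fin 10, [γ 0, γ 1, γ 2, ps (γ 0), ps (γ 1), ps (γ 2), γ 6, ps (γ 6), γ 8, γ 9].getD x 0 = γ x :=
    fun x => by fin_cases x; exacts [rfl, rfl, rfl, (c 0).symm, (c 1).symm, (c 2).symm, rfl, (c 6).symm, rfl, rfl]
  have k := s7k (γ 0) (by rw [Ne, fix_iff h1]; decide) (γ 1) (by rw [Ne, fix_iff h1]; decide) (by simp)
    (c 0 ▸ γ.injective.ne (by decide)) (γ 2) (by rw [Ne, fix_iff h1]; decide) (by simp)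
    (c 0 ▸ γ.injective.ne (by decide)) (by simp) (c 1 ▸ γ.injective.ne (by decide))
    (γ 6) (by rw [Ne, fix_iff h1]; decide) (γ 8) (by rw [fix_iff h1]; decide) (γ 9) (by rw [fix_iff h1]; decide)
    (by simp)
  simp only [e] at k
  refine (k (ii h2) fun x => ?_).elim (fun ⟨a, b, c⟩ => ?_) fun ⟨i, v, hv, e⟩ => ⟨i, v, hv, Equiv.ext e⟩
  · rw [mul_assoc, mul_assoc _ _⁻¹, ← mul_assoc _⁻¹, ← mul_assoc _⁻¹, show (pa * pb)⁻¹ * (pa * pb)⁻¹ = pa * pb by
      decide +kernel] at h4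
    exact DFunLike.congr_fun h4 x
  · have := Finset.card_add_card_compl γ.support
    have : 2 < γ.supportᶜ.card := Finset.two_lt_card_iff.2 ⟨6, 8, 9, by simpa, by simpa, by simpa, by simp⟩
    rw [Fintype.card_fin] at *
    omega

theorem sign_pe : ∀ i j k, Perm.sign (pe i j k) = 1 := by decide +kernel

theorem cyk : ∀ ε ≠ 0, ∀ i0, (pa * pb) i0 ≠ i0 → pe ε 0 1 i0 ≠ i0 → ∀ i3, (pa * pb) i3 ≠ i3 → pe ε 0 1 i3 = i3 →
    ∀ i6, (pa * pb) i6 = i6 → pe ε 0 1 i6 ≠ i6 → ∀ i9, (pa * pb) i9 = i9 → pe ε 0 1 i9 = i9 →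
    ∃ i j k, ∀ x : Fin 10, [i0, (pa * pb) i0, (pa * pb) ((pa * pb) i0), i3, (pa * pb) i3, (pa * pb) ((pa * pb) i3),
      i6, pe ε 0 1 i6, pe ε 0 1 (pe ε 0 1 i6), i9].getD x 0 = pe i j k x := by
  decide +kernel

theorem cent_ye {μ : S10} {i j k : Fin 3} (h1 : i ≠ j) (h2 : k ≠ 0) (c1 : Commute μ (pa * pb))
    (c2 : Commute μ (pe i j k)) : Perm.sign μ = 1 := by
  obtain ⟨ε, e⟩ := (by decide +kernel : ∀ i j k, i ≠ j → k ≠ 0 →
    ∃ ε ≠ 0, (pe i j k * (pa * pb) ^ (2 * j.1)) ^ k.1 = pe ε 0 1) i j k h1 h2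
  have c3 : Commute μ (pe ε 0 1) := e.2 ▸ (c2.mul_right (c1.pow_right _)).pow_right _
  have f := (by decide +kernel : ∀ ε ≠ 0, pe ε 0 1 0 ≠ 0 ∧ pe ε 0 1 3 = 3 ∧ pe ε 0 1 6 = 7 ∧ pe ε 0 1 7 = 8 ∧
    pe ε 0 1 9 = 9) ε e.1
  obtain ⟨i, j, k, h⟩ := cyk ε e.1 (μ 0) (by rw [Ne, fix_iff c1]; decide) (by rw [Ne, fix_iff c3]; exact f.1)
    (μ 3) (by rw [Ne, fix_iff c1]; decide) (by rw [fix_iff c3]; exact f.2.1)
    (μ 6) (by rw [fix_iff c1]; decide) (by rw [Ne, fix_iff c3, f.2.2.1]; decide)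
    (μ 9) (by rw [fix_iff c1]; decide) (by rw [fix_iff c3]; exact f.2.2.2.2)
  simp only [← ap_comm c1, ← ap_comm c3, f] at h
  rw [show μ = pe i j k from Equiv.ext fun x => (h x).symm ▸ by fin_cases x <;> rfl, sign_pe]

theorem cent_a {μ : S10} (c : μ * pa = pa * μ) (h : ∀ x ∈ [3, 4, 5, 6, 7, 8, 9], μ x = x) : ∃ i : ℕ, μ = pa ^ i := by
  obtain ⟨i, hi⟩ := (by decide +kernel : ∀ i0, pa i0 ≠ i0 → ∃ i : Fin 3, ∀ x : Fin 10,
    [i0, pa i0, pa (pa i0), 3, 4, 5, 6, 7, 8, 9].getD x 0 = (pa ^ i.1) x) (μ 0) (by rw [Ne, fix_iff c]; decide)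
  simp only [← ap_comm c] at hi
  exact ⟨i, Equiv.ext fun x => (hi x).symm ▸ by fin_cases x <;> first | rfl | exact h _ (by decide)⟩

theorem not81 {B : Subgroup S10} (h : ∀ b ∈ B, b ^ 3 = 1) : ¬ 81 ∣ Nat.card B := fun e => by
  have := Fact.mk Nat.prime_three
  have hB : IsPGroup 3 B := isPGroup_of_pow 1 (by simpa using h)
  have c := B.card_mul_index
  rw [Nat.card_perm, Nat.card_eq_fintype_card (α := Fin 10), Fintype.card_fin] at c
  obtain ⟨g, hg⟩ := H9.exists_conj_mem_sylow (hB.toSylow fun f => absurd (c ▸ Nat.mul_dvd_mul e f) (by decide))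
    (H9.isPGroup_zpowers_of_pow (a := 2) (x := pa * pb * pc * swap 2 5 * swap 5 8) (by decide +kernel))
  have := h _ (hg _ (mem_zpowers _))
  rw [conj_pow, conj_eq_one_iff] at this
  exact absurd this (by decide +kernel)

theorem two_six : ∀ i j k l l' : Fin 3, l ≠ l' → (pe i j k * (pa * pb) ^ l.1).support.card = 6 →
    (pe i j k * (pa * pb) ^ l'.1).support.card = 6 → i ≠ j ∧ k ≠ 0 ∨ pe i j k * (pa * pb) ^ (2 * j.1) = 1 := by
  decide +kernel

theorem eqns_p10 : True := by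
  have := @pa.eq_1
  have := @pb.eq_1
  have := @pc.eq_1
  have := @ps.eq_1
  have := @pq.eq_1
  have := @pt.eq_1
  have := @pf.eq_1
  have := @al.eq_1
  have := @be.eq_1
  have := @pe.eq_1
  trivial

end H27.AD
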