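import Cfsg.Agent.Lib.McL27.Cover
/-! Lifting permutations to an involution centralizer that is a double cover of an alternating group -/
set_option autoImplicit false
set_option linter.unusedSectionVars false
namespace H27.AD
open Subgroup Equiv H95

section perm
variable {α : Type} [DecidableEq α] [Fintype α] {σ τ : Perm α} {a b c d : α}

theorem ii (h : σ * σ = 1) (x : α) : σ (σ x) = x := by rw [← Perm.mul_apply, h, Perm.one_apply]

theorem cycleType_rep {p : ℕ} [hp : Fact p.Prime] (h : σ ^ p = 1) :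
    σ.cycleType = Multiset.replicate (σ.support.card / p) p := by
  have h1 := Perm.cycleType_of_pow_prime_eq_one h
  rw [← Perm.sum_cycleType, h1, Multiset.sum_replicate, smul_eq_mul, Nat.mul_div_cancel _ hp.out.pos]

theorem dvd_supp {p : ℕ} [Fact p.Prime] (h : σ ^ p = 1) : p ∣ σ.support.card := by
  rw [← Perm.sum_cycleType, Perm.cycleType_of_pow_prime_eq_one h, Multiset.sum_replicate]
  exact Dvd.intro_left _ rfl

theorem card_cent {p : ℕ} [Fact p.Prime] (h : σ ^ p = 1) {k : ℕ} (hk : σ.support.card / p = k + 1) :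
    Nat.card (centralizer ({σ} : Set (Perm α))) =
      (Fintype.card α - σ.support.card).factorial * p ^ (k + 1) * (k + 1).factorial := by
  rw [Perm.nat_card_centralizer, Perm.sum_cycleType, cycleType_rep h, hk]
  rw [Multiset.toFinset_replicate, if_neg k.succ_ne_zero, Finset.prod_singleton, Multiset.count_replicate_self,
    Multiset.prod_replicate]

theorem conj_tp {η : Perm α} (h : η * σ = σ * η) (a : α) : η * swap a (σ a) * η⁻¹ = swap (η a) (σ (η a)) := by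
  rw [← swap_apply_apply, ← Perm.mul_apply, h, Perm.mul_apply]

theorem tp_comm (h : σ * σ = 1) (a : α) : swap a (σ a) * σ = σ * swap a (σ a) := by
  rw [mul_swap_eq_swap_mul, ii h, swap_comm]

theorem tp_tp (h : σ * σ = 1) (a b : α) : Commute (swap a (σ a)) (swap b (σ b)) := by
  refine mul_inv_eq_iff_eq_mul.1 ((conj_tp (tp_comm h a) b).trans ?_)
  rw [swap_apply_def a]
  split_ifs with h1 h2
  · rw [h1, ii h, swap_comm]
  · rw [h2, ii h, swap_comm]
  · rfl

theorem exists_conj (hσ : σ * σ = 1) (hτ : τ * τ = 1) (hs : σ.support.card = τ.support.card) (h1 : τ ≠ 1) :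
    ∃ π ∈ alternatingGroup α, π * σ * π⁻¹ = τ := by
  obtain ⟨π, hπ⟩ := isConj_iff.1 (Perm.isConj_of_cycleType_eq (σ := σ) (τ := τ) (by
    rw [cycleType_rep ((sq σ).trans hσ), cycleType_rep ((sq τ).trans hτ), hs]))
  obtain ⟨a, ha : τ a ≠ a⟩ := not_forall.1 (mt Equiv.ext h1)
  rcases Int.units_eq_one_or (Perm.sign π) with h | h
  · exact ⟨π, h, hπ⟩
  · refine ⟨swap a (τ a) * π, Perm.mem_alternatingGroup.2 (by rw [map_mul, h, Perm.sign_swap (Ne.symm ha)]; simp), ?_⟩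
    calc _ = swap a (τ a) * (π * σ * π⁻¹) * (swap a (τ a))⁻¹ := by group
      _ = τ := by rw [hπ, tp_comm hτ, mul_inv_cancel_right]

theorem step (h : σ * σ = 1) (ha : σ a ≠ a) : (swap a (σ a) * σ) * (swap a (σ a) * σ) = 1 ∧
    (∀ x, (swap a (σ a) * σ) x = if x = a ∨ x = σ a then x else σ x) ∧
    (swap a (σ a) * σ).support.card + 2 = σ.support.card := by
  have e : ∀ x, (swap a (σ a) * σ) x = if x = a ∨ x = σ a then x else σ x := fun x => by
    have := ii h x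
    have := ii h a
    rw [Perm.mul_apply, swap_apply_def]
    grind
  refine ⟨by rw [← sq, Commute.mul_pow (tp_comm h a), sq, sq, h, swap_mul_self, one_mul], e, ?_⟩
  have : Perm.Disjoint (swap a (σ a)) (swap a (σ a) * σ) := fun x => by
    rw [e, swap_apply_def]
    grind
  rw [← Perm.card_support_swap ha.symm, add_comm, ← this.card_support_mul, swap_mul_self_mul]

theorem card_dt (h : [a, b, c, d].Nodup) : (swap a b * swap c d).support.card = 4 := by
  rw [(Perm.disjoint_swap_swap h).card_support_mul, Perm.card_support_swap (by grind),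
    Perm.card_support_swap (by grind)]

theorem dt_sq (h : [a, b, c, d].Nodup) : swap a b * swap c d * (swap a b * swap c d) = 1 := by
  rw [← sq, (Perm.disjoint_swap_swap h).commute.mul_pow]; simp [sq]

theorem cube3 (_h : [a, b, c].Nodup) : (swap a b * swap b c) ^ 3 = 1 := by
  ext x
  simp only [pow_succ, pow_zero, one_mul, Perm.mul_apply, swap_apply_def, Perm.one_apply]
  grind

theorem avoid (T : List α) (hT : 2 * T.length < σ.support.card) :
    ∃ x, σ x ≠ x ∧ ∀ t ∈ T, x ≠ t ∧ x ≠ σ t := by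
  obtain ⟨x, h1, h2⟩ := Finset.exists_mem_notMem_of_card_lt_card (s := (T ++ T.map σ).toFinset) (t := σ.support)
    ((List.toFinset_card_le _).trans_lt (by simpa [two_mul] using hT))
  simp only [List.mem_toFinset, List.mem_append, List.mem_map, not_or, not_exists, not_and] at h2
  exact ⟨x, Perm.mem_support.1 h1, fun t ht => ⟨fun e => h2.1 (e ▸ ht), fun e => h2.2 t ht e.symm⟩⟩

end perm

variable {G : Type*} [Group G] {α : Type} [DecidableEq α] [Fintype α] {z : G}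
  {φ : centralizer ({z} : Set G) →* Perm α} {g g' x x' : G} {σ σ' τ τ' : Perm α} {a b c d : α}

/-- `g` centralizes `z` and lies over `σ` -/
def Ov (φ : centralizer ({z} : Set G) →* Perm α) (g : G) (σ : Perm α) : Prop :=
  ∃ h : g ∈ centralizer ({z} : Set G), φ ⟨g, h⟩ = σ

namespace Ov
theorem comm (h : Ov φ g σ) : g * z = z * g := mem_cent_iff.1 h.1
theorem one : Ov φ 1 1 := ⟨one_mem _, map_one φ⟩
theorem mul (h : Ov φ g σ) (h' : Ov φ g' σ') : Ov φ (g * g') (σ * σ') :=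
  ⟨mul_mem h.1 h'.1, (map_mul φ ⟨g, h.1⟩ ⟨g', h'.1⟩).trans (by rw [h.2, h'.2])⟩
theorem inv (h : Ov φ g σ) : Ov φ g⁻¹ σ⁻¹ := ⟨inv_mem h.1, (map_inv φ ⟨g, h.1⟩).trans (by rw [h.2])⟩
theorem pow (h : Ov φ g σ) (n : ℕ) : Ov φ (g ^ n) (σ ^ n) :=
  ⟨pow_mem h.1 n, (map_pow φ ⟨g, h.1⟩ n).trans (by rw [h.2])⟩
theorem conj (h : Ov φ g σ) (h' : Ov φ g' σ') : Ov φ (g * g' * g⁻¹) (σ * σ' * σ⁻¹) := (h.mul h').mul h.inv
theorem uniq (h : Ov φ g σ) (h' : Ov φ g σ') : σ = σ' := h.2.symm.trans h'.2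
theorem comm_of (h : Ov φ g σ) (h' : Ov φ g' σ') (e : g * g' = g' * g) : σ * σ' = σ' * σ :=
  (h.mul h').uniq (e ▸ h'.mul h)
theorem ne_one (h : Ov φ g σ) (h1 : σ ≠ 1) : g ≠ 1 := fun e => h1 ((e ▸ h).uniq one)
theorem pow_one (h : Ov φ g σ) {n : ℕ} (e : g ^ n = 1) : σ ^ n = 1 := (e ▸ h.pow n).uniq one
theorem sq_one (h : Ov φ g σ) (e : g * g = 1) : σ * σ = 1 := (e ▸ h.mul h).uniq one
end Ov

variable (φ) in
theorem exists_ov (h : g * z = z * g) : ∃ σ, Ov φ g σ := ⟨_, mem_cent_iff.2 h, rfl⟩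

/-- the centralizer of `z` is the double cover of the alternating group -/
structure DC (z : G) (φ : centralizer ({z} : Set G) →* Perm α) : Prop where
  sq : z * z = 1
  ne : z ≠ 1
  range : φ.range = alternatingGroup α
  ker : ∀ k, φ k = 1 ↔ (k : G) = 1 ∨ (k : G) = z
  spin : ∃ g σ, Ov φ g σ ∧ σ * σ = 1 ∧ σ.support.card = 4 ∧ g * g = z

theorem exists_dc {n : ℕ} (hn : 4 ≤ n) (hz : orderOf z = 2)
    (h : Cfsg.IsNonsplitDoubleCover (centralizer ({z} : Set G)) (alternatingGroup (Fin n))) :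
    ∃ φ : centralizer ({z} : Set G) →* Perm (Fin n), DC z φ := by
  obtain ⟨m, rfl⟩ := Nat.exists_eq_add_of_le' hn
  let t' : centralizer ({z} : Set G) := ⟨z, mem_cent_iff.2 rfl⟩
  have t1 : t' ≠ 1 := fun e => ne_one_of_orderOf_eq_two hz (congrArg Subtype.val e)
  have tc : t' ∈ center _ := mem_center_iff.2 fun g => Subtype.ext (mem_cent_iff.1 g.2)
  obtain ⟨π, hs, hk, hL⟩ := Cv.exists_pi (m := m + 2) h t1 tc
  obtain ⟨y, h1, -, h3⟩ := Cv.exists_carm π hs (Subtype.ext (mul_self_of_orderOf_eq_two hz)) t1 tc hk hL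
  let e := H72.AC.aaEquiv (m + 2)
  let f : Fin (m + 2) ⊕ Bool ≃ Fin (m + 4) := (Equiv.sumCongr (Equiv.refl _) finTwoEquiv.symm).trans finSumFinEquiv
  have n4 : [f (.inl 1), f (.inr true), f (.inl 0), f (.inr false)].Nodup := by simp
  refine ⟨(alternatingGroup _).subtype.comp (e.toMonoidHom.comp π), mul_self_of_orderOf_eq_two hz,
    ne_one_of_orderOf_eq_two hz, ?_, fun k => ?_, y 0 * y 1, _, ⟨(y 0 * y 1).2, ?_⟩, dt_sq n4, card_dt n4,
    by simpa [sq] using congrArg Subtype.val (h3 0 1 (by simp))⟩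
  · rw [MonoidHom.range_comp, MonoidHom.range_eq_top.2 (e.surjective.comp hs), ← MonoidHom.range_eq_map,
      range_subtype]
  · rw [MonoidHom.comp_apply, map_eq_one_iff _ (subtype_injective _), MonoidHom.comp_apply,
      map_eq_one_iff e.toMonoidHom e.injective, hk, Subtype.ext_iff, Subtype.ext_iff]; rfl
  · show f.permCongr (π (y 0 * y 1)) = _
    rw [map_mul, h1, h1]
    ext x
    obtain ⟨x, rfl⟩ := f.surjective x
    rw [permCongr_apply, symm_apply_apply, Perm.mul_apply, ← f.injective.map_swap, ← f.injective.map_swap]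
    congr 2
    simp only [coe_mul, H40.Alt.xa, H40.Alt.xp, Perm.mul_apply]
    simp only [swap_apply_def]
    have : (0 : Fin (m + 2)) ≠ 1 := by simp
    grind

namespace DC
variable (h : DC z φ)
include h

theorem mem (hg : Ov φ g σ) : Perm.sign σ = 1 := Perm.mem_alternatingGroup.1 (h.range ▸ ⟨_, hg.2⟩)

theorem lift (hσ : Perm.sign σ = 1) : ∃ g, Ov φ g σ :=
  let ⟨a, e⟩ := h.range.ge (Perm.mem_alternatingGroup.2 hσ); ⟨a, a.2, e⟩

theorem ovz : Ov φ z 1 := ⟨mem_cent_iff.2 rfl, (h.ker _).2 (Or.inr rfl)⟩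

theorem ne_z (hg : Ov φ g σ) (h1 : σ ≠ 1) : g ≠ z := fun e => h1 ((e ▸ hg).uniq h.ovz)

theorem of_one (hg : Ov φ g 1) : g = 1 ∨ g = z := (h.ker _).1 hg.2

theorem eq_or (hg : Ov φ g σ) (hg' : Ov φ g' σ) : g' = g ∨ g' = g * z :=
  (h.of_one (inv_mul_cancel σ ▸ hg.inv.mul hg')).imp (fun e => (inv_mul_eq_one.1 e).symm)
    inv_mul_eq_iff_eq_mul.1

theorem sq_eq (hg : Ov φ g σ) (hg' : Ov φ g' σ) : g' * g' = g * g := by
  rcases h.eq_or hg hg' with rfl | rfl
  · rfl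
  · rw [← _root_.sq, Commute.mul_pow hg.comm, _root_.sq z, h.sq, mul_one, _root_.sq]

theorem eq_of_cube (hg : Ov φ g σ) (hg' : Ov φ g' σ) (e : g ^ 3 = 1) (e' : g' ^ 3 = 1) : g' = g :=
  (h.eq_or hg hg').resolve_right fun e1 => h.ne (by
    rwa [e1, Commute.mul_pow hg.comm, e, one_mul, pow_three, h.sq, mul_one] at e')

theorem conj_eq (hg : Ov φ g σ) (hx : Ov φ x τ) (hx' : Ov φ x' τ') (e : σ * τ * σ⁻¹ = τ')
    (e1 : x ^ 3 = 1) (e2 : x' ^ 3 = 1) : g * x * g⁻¹ = x' :=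
  h.eq_of_cube hx' (e ▸ hg.conj hx) e2 (Gn.conj_pow_eq_one e1 g)

theorem comm_cube (hg : Ov φ g σ) (hx : Ov φ x τ) (e : σ * τ = τ * σ) (e1 : x ^ 3 = 1) : Commute g x :=
  mul_inv_eq_iff_eq_mul.1 (h.conj_eq hg hx hx (mul_inv_eq_iff_eq_mul.2 e) e1 e1)

theorem exists_odd {k : ℕ} (hσ : Perm.sign σ = 1) (e : σ ^ (2 * k + 1) = 1) :
    ∃ x, Ov φ x σ ∧ x ^ (2 * k + 1) = 1 := by
  obtain ⟨g, hg⟩ := h.lift hσ
  rcases h.of_one (e ▸ hg.pow _) with e1 | e1
  · exact ⟨g, hg, e1⟩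
  · exact ⟨g * z, mul_one σ ▸ hg.mul h.ovz, by
      rw [Commute.mul_pow hg.comm, e1, pow_succ, pow_mul, _root_.sq, h.sq, one_pow, one_mul, h.sq]⟩

theorem exists_cube (n : [a, b, c].Nodup) : ∃ x, Ov φ x (swap a b * swap b c) ∧ x ^ 3 = 1 :=
  h.exists_odd (k := 1) (by rw [map_mul, Perm.sign_swap (by grind), Perm.sign_swap (by grind)]; simp) (cube3 n)

theorem sq4 (hg : Ov φ g σ) (e : σ * σ = 1) (e4 : σ.support.card = 4) : g * g = z := by
  obtain ⟨g', σ', h1, h2, h3, h4⟩ := h.spin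
  obtain ⟨π, hπ, e1⟩ := exists_conj h2 e (h3.trans e4.symm) (by rintro rfl; simp at e4)
  obtain ⟨k, hk⟩ := h.lift hπ
  rw [h.sq_eq (e1 ▸ hk.conj h1) hg, conj_mul, h4, hk.comm, mul_inv_cancel_right]

theorem sq_dt (n : [a, b, c, d].Nodup) (hg : Ov φ g (swap a b * swap c d)) : g * g = z :=
  h.sq4 hg (dt_sq n) (card_dt n)

theorem comm_dt (n : [a, b, c, d].Nodup) (hx : Ov φ x (swap a b * swap c d)) (hg : Ov φ g σ)
    (ha : σ a = a) (hb : σ b = b) (hc : σ c = c) (hd : σ d = d) : Commute g x := by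
  obtain ⟨x1, h1, c1⟩ := h.exists_cube (a := a) (b := b) (c := c) (by grind)
  obtain ⟨x2, h2, c2⟩ := h.exists_cube (a := b) (b := c) (c := d) (by grind)
  have e : ∀ {a b c : α}, σ a = a → σ b = b → σ c = c → σ * (swap a b * swap b c) = swap a b * swap b c * σ :=
    fun ha hb hc => by
      rw [← mul_assoc, mul_swap_eq_swap_mul σ, mul_assoc, mul_swap_eq_swap_mul σ, ha, hb, hc, mul_assoc]
  have := (h.comm_cube hg h1 (e ha hb hc) c1).mul_right (h.comm_cube hg h2 (e hb hc hd) c2)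
  have h3 := h1.mul h2
  rw [mul_assoc, swap_mul_self_mul] at h3
  rcases h.eq_or h3 hx with rfl | rfl
  exacts [this, this.mul_right hg.comm]

/-- the lift of two transpositions of an involution -/
theorem exists_e (hg : Ov φ g σ) (e : σ * σ = 1) (ha : σ a ≠ a) (hb : σ b ≠ b) (h1 : b ≠ a) (h2 : b ≠ σ a) :
    ∃ x, Ov φ x (swap a (σ a) * swap b (σ b)) ∧ x * x = z ∧ Commute x g ∧
      ∃ ρ, Ov φ (x * g) ρ ∧ ρ * ρ = 1 ∧ ρ.support.card + 4 = σ.support.card := by
  have i1 := ii e a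
  have i2 := ii e b
  have n : [a, σ a, b, σ b].Nodup := by grind
  obtain ⟨x, hx⟩ := h.lift (σ := swap a (σ a) * swap b (σ b)) (by
    rw [map_mul, Perm.sign_swap ha.symm, Perm.sign_swap hb.symm]; simp)
  obtain ⟨s1, s2, s3⟩ := step e hb
  have ea : (swap b (σ b) * σ) a = σ a := by grind
  obtain ⟨s4, s5, s6⟩ := step s1 (ea ▸ ha)
  rw [ea] at s4 s5 s6
  have := mul_assoc (swap a (σ a)) _ _ ▸ hx.mul hg
  refine ⟨x, hx, h.sq_dt n hx, ?_, _, this, s4, by omega⟩
  have c := h.comm_dt n hx this (by grind) (by grind) (by grind) (by grind)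
  exact (mul_left_cancel (a := x) (by rw [← mul_assoc x g, c.eq])).symm

theorem sq_pow : ∀ (k : ℕ) {g : G} {σ : Perm α}, σ.support.card = k → Ov φ g σ → σ * σ = 1 →
    4 ∣ k ∧ g * g = z ^ (k / 4) := fun k => by
  induction k using Nat.strong_induction_on with
  | _ k ih =>
  rintro g σ rfl hg e
  by_cases h1 : σ = 1
  · subst h1
    rcases h.of_one hg with rfl | rfl <;> simp [h.sq]
  obtain ⟨a, ha : σ a ≠ a⟩ := not_forall.1 (mt Equiv.ext h1)
  obtain ⟨s1, s2, s3⟩ := step e ha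
  have : swap a (σ a) * σ ≠ 1 := fun f => by
    have := congrArg Perm.sign f
    rw [map_mul, h.mem hg, Perm.sign_swap (Ne.symm ha)] at this
    simp at this
  obtain ⟨b, hb⟩ := not_forall.1 (mt Equiv.ext this)
  rw [s2, Perm.one_apply] at hb
  obtain ⟨x, -, x2, c, ρ, r1, r2, r3⟩ := h.exists_e (a := a) (b := b) hg e ha (by grind) (by grind) (by grind)
  obtain ⟨i1, i2⟩ := ih _ (by omega) rfl r1 r2
  refine ⟨by omega, ?_⟩
  rw [← _root_.sq, c.mul_pow, _root_.sq, _root_.sq, x2] at i2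
  rw [← r3, Nat.add_div_right _ (by norm_num), pow_succ', ← i2, ← mul_assoc, h.sq, one_mul]

theorem sq8 (hg : Ov φ g σ) (e : σ * σ = 1) (e8 : 8 ∣ σ.support.card) : g * g = 1 := by
  obtain ⟨k, hk⟩ := e8
  rw [(h.sq_pow _ rfl hg e).2, hk, show 8 * k / 4 = 2 * k by omega, pow_mul, _root_.sq, h.sq, one_pow]

theorem invol (hg : Ov φ g σ) (e : g * g = 1) (h1 : g ≠ 1) (h2 : g ≠ z) :
    σ * σ = 1 ∧ 8 ∣ σ.support.card ∧ 8 ≤ σ.support.card := by
  obtain ⟨⟨k, hk⟩, h4⟩ := h.sq_pow _ rfl hg (hg.sq_one e)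
  have : 8 ∣ σ.support.card := by
    obtain ⟨j, rfl | rfl⟩ := Nat.even_or_odd' k
    · exact ⟨j, by omega⟩
    · rw [e, hk, show 4 * (2 * j + 1) / 4 = 2 * j + 1 by omega, pow_succ, pow_mul, _root_.sq, h.sq] at h4
      exact absurd (by simpa using h4.symm) h.ne
  refine ⟨hg.sq_one e, this, Nat.le_of_dvd (Nat.pos_of_ne_zero fun f => ?_) this⟩
  rw [Perm.card_support_eq_zero.1 f] at hg
  exact (h.of_one hg).elim h1 h2

/-- involutions over permutations of the same type are conjugate -/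
theorem conj_invol (hg : Ov φ g σ) (hg' : Ov φ g' τ) (e : g * g = 1) (h1 : g ≠ 1) (h2 : g ≠ z)
    (e' : τ * τ = 1) (hs : σ.support.card = τ.support.card) : ∃ k, k * z = z * k ∧ k * g * k⁻¹ = g' := by
  obtain ⟨s2, s8, s8'⟩ := h.invol hg e h1 h2
  obtain ⟨π, hπ, e1⟩ := exists_conj s2 e' hs (by rintro rfl; simp [hs] at s8')
  obtain ⟨k, hk⟩ := h.lift hπ
  have hk' := e1 ▸ hk.conj hg
  rcases h.eq_or hk' hg' with rfl | rfl
  · exact ⟨k, hk.comm, rfl⟩
  obtain ⟨a, ha, -⟩ := avoid (σ := σ) [] (by rw [List.length_nil]; omega)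
  obtain ⟨b, hb, hb'⟩ := avoid (σ := σ) [a] (by simp; omega)
  have i1 := ii s2 a
  have i2 := ii s2 b
  have n : [a, b, σ a, σ b].Nodup := by grind
  obtain ⟨l, hl⟩ := h.lift (σ := swap a b * swap (σ a) (σ b)) (by
    rw [map_mul, Perm.sign_swap (by grind), Perm.sign_swap (by grind)]; simp)
  have c : swap a b * swap (σ a) (σ b) * σ = σ * (swap a b * swap (σ a) (σ b)) := by
    rw [← mul_assoc, mul_swap_eq_swap_mul σ, mul_assoc _ σ, mul_swap_eq_swap_mul σ, i1, i2, ← mul_assoc,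
      (Perm.disjoint_swap_swap n).commute.eq]
  have q := h.sq8 (hl.mul hg) (by rw [← _root_.sq, Commute.mul_pow c, _root_.sq, dt_sq n, _root_.sq, s2, one_mul]) (by
    convert s8 using 2
    ext x
    have := ii s2 x
    simp only [Perm.mem_support, Perm.mul_apply, swap_apply_def]
    grind)
  rcases h.eq_or hg (mul_inv_eq_iff_eq_mul.2 c ▸ hl.conj hg) with f | f
  · rw [← _root_.sq, Commute.mul_pow (mul_inv_eq_iff_eq_mul.1 f), _root_.sq, _root_.sq, e, h.sq_dt n hl,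
      mul_one] at q
    exact absurd q h.ne
  · refine ⟨k * l, (hk.mul hl).comm, ?_⟩
    calc _ = k * (l * g * l⁻¹) * k⁻¹ := by group
      _ = _ := by rw [f, mul_assoc _ k⁻¹, hk.inv.comm]; group

end DC

theorem eqns_spin : True := by
  have := @Ov.eq_1.{0}
  trivial

end H27.AD
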