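import Cfsg.Agent.Lib.Alt27.P10
/-! An involution with centralizer `2.Aₙ`, `n ≠ 8, 11`, is isolated -/
set_option autoImplicit false
set_option linter.unusedSectionVars false
namespace H27.AD
open Subgroup Equiv H95 H42.BSE

variable {G : Type*} [Group G] [Finite G] {z : G}

theorem card_ker_mul {A B : Type*} [Group A] [Group B] (f : A →* B) (K : Subgroup A) :
    Nat.card K = Nat.card (f.ker ⊓ K : Subgroup A) * Nat.card (K.map f) := by
  rw [← relIndex_ker, ← relIndex_bot_left, ← relIndex_bot_left (f.ker ⊓ K), ← inf_relIndex_right f.ker,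
    relIndex_mul_relIndex _ _ _ bot_le inf_le_right]

section
variable {α : Type} [DecidableEq α] [Fintype α] {φ : centralizer ({z} : Set G) →* Perm α}

theorem DC.card_ker (h : DC z φ) : Nat.card φ.ker = 2 := by
  rw [← orderOf_eq_two_of h.sq h.ne, ← Nat.card_zpowers, ← card_map_of_injective (subtype_injective _)]
  congr
  ext g
  rw [mem_zpowers_iff_of_sq h.sq]
  exact ⟨fun ⟨k, a, b⟩ => b ▸ (h.ker k).1 a, fun e => ⟨⟨g, e.elim (· ▸ one_mem _) (· ▸ h.ovz.1)⟩, (h.ker _).2 e, rfl⟩⟩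

variable (φ) in
/-- the image of a subgroup -/
def Im (Y : Subgroup G) : Subgroup (Perm α) := (Y.subgroupOf _).map φ

theorem mem_Im {Y : Subgroup G} {σ : Perm α} : σ ∈ Im φ Y ↔ ∃ g ∈ Y, Ov φ g σ :=
  ⟨fun ⟨k, a, b⟩ => ⟨k, a, k.2, b⟩, fun ⟨g, a, b, c⟩ => ⟨⟨g, b⟩, a, c⟩⟩

theorem norm_Im {Y : Subgroup G} {g : G} {σ : Perm α} (hg : Ov φ g σ) (h : ∀ y ∈ Y, g * y * g⁻¹ ∈ Y) :
    σ ∈ normalizer (Im φ Y : Set (Perm α)) :=
  mem_normalizer_fintype fun _ hu => let ⟨y, a, b⟩ := mem_Im.1 hu; mem_Im.2 ⟨_, h y a, hg.conj b⟩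

theorem DC.card_Im (h : DC z φ) {Y : Subgroup G} (hY : Y ≤ centralizer {z}) : Nat.card Y ∣ 2 * Nat.card (Im φ Y) := by
  rw [← Nat.card_congr (subgroupOfEquivOfLe hY).toEquiv, card_ker_mul φ, ← h.card_ker]
  exact Nat.mul_dvd_mul_right (card_dvd_of_le inf_le_left) _

theorem DC.card_cent (h : DC z φ) {Y : Subgroup G} {g : G} {σ : Perm α} (hg : Ov φ g σ)
    (hY : Y ≤ centralizer {z} ⊓ centralizer {g}) : Nat.card Y ∣ 2 * Nat.card (centralizer ({σ} : Set (Perm α))) :=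
  (h.card_Im (hY.trans inf_le_left)).trans (Nat.mul_dvd_mul_left 2 (card_dvd_of_le fun _ hu =>
    let ⟨_, a, b⟩ := mem_Im.1 hu; mem_cent_iff.2 (b.comm_of hg (mem_cent_iff.1 (hY a).2))))

end

def v9 (i : Fin 8) : Perm (Fin 9) := (swap 0 1 * swap 2 3 * swap 4 5 * swap 6 7) ^ (i.1 % 2) *
  (swap 0 2 * swap 1 3 * swap 4 6 * swap 5 7) ^ (i.1 / 2 % 2) * (swap 0 4 * swap 1 5 * swap 2 6 * swap 3 7) ^ (i.1 / 4)

theorem v9_spec : (∀ i, v9 i * v9 i = 1 ∧ 8 ∣ (v9 i).support.card ∧ Perm.sign (v9 i) = 1 ∧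
    ∀ j, ∃ k, v9 k = v9 i * v9 j) ∧ v9 0 = 1 ∧ ∀ i j, v9 i = v9 j → i = j := by decide +kernel

theorem nine {φ : centralizer ({z} : Set G) →* Perm (Fin 9)} (h : DC z φ) : H3.C2.A9C z φ := by
  have inv : ∀ d : centralizer ({z} : Set G), (d : G) ≠ 1 → (d : G) ≠ z → d * d = 1 → (φ d).support.card = 8 :=
    fun d a b c => by
      have := h.invol (σ := φ d) ⟨d.2, rfl⟩ (congrArg Subtype.val c) a b
      have := (φ d).support.card_le_univ
      rw [Fintype.card_fin] at this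
      omega
  refine ⟨h.sq, h.ne, h.range, fun k e => (h.ker k).2 (Or.inr e), fun k e _ _ => (h.ker k).1 e, fun d a b c => ?_,
    fun d e a b c a' b' c' => ?_, ?_⟩
  · have := Finset.card_add_card_compl (φ d).support
    rw [inv d a b c, Fintype.card_fin] at this
    obtain ⟨i, hi⟩ := Finset.card_eq_one.1 (show (φ d).supportᶜ.card = 1 by omega)
    simp only [Finset.ext_iff, Finset.mem_compl, Perm.notMem_support, Finset.mem_singleton] at hi
    exact ⟨i, (hi i).2 rfl, fun j => (hi j).1⟩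
  · obtain ⟨k, h1, h2⟩ := h.conj_invol (σ := φ d) (τ := φ e) ⟨d.2, rfl⟩ ⟨e.2, rfl⟩ (congrArg Subtype.val c) a b
      (by rw [← map_mul, c', map_one]) (by rw [inv d a b c, inv e a' b' c'])
    exact isConj_iff.2 ⟨⟨k, mem_cent_iff.2 h1⟩, Subtype.ext h2⟩
  obtain ⟨hL, h1, h2⟩ := v9_spec
  let V : Subgroup (Perm (Fin 9)) := ⟨⟨⟨Set.range v9, fun ⟨i, a⟩ ⟨j, b⟩ => a ▸ b ▸ (hL i).2.2.2 j⟩, 0, h1⟩,
    fun ⟨i, a⟩ => ⟨i, a ▸ eq_inv_of_mul_eq_one_right (hL i).1⟩⟩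
  refine ⟨(V.comap φ).map (Subgroup.subtype _), map_subtype_le _, ⟨⟨z, h.ovz.1⟩, ⟨0, h1.trans h.ovz.2.symm⟩, rfl⟩,
    fun _ ⟨k, ⟨i, a⟩, b⟩ => b ▸ h.sq8 ⟨k.2, a.symm⟩ (hL i).1 (hL i).2.1, ?_⟩
  rw [card_map_of_injective (subtype_injective _), card_ker_mul φ, inf_eq_left.2 (ker_le_comap φ V), h.card_ker,
    map_comap_eq_self (h.range ▸ fun σ ⟨i, a⟩ => a ▸ (hL i).2.2.1),
    show Nat.card V = _ from Nat.card_range_of_injective h2]
  simp

theorem num {p n : ℕ} (hp : p.Prime) (d4 : p ^ n ∣ (10 : ℕ).factorial * 2) (d6 : Odd (p ^ n))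
    (c4 : p ^ n ≡ 1 [MOD 2 ^ (1 + 1)]) (d5 : p = 3 → ¬ 81 ∣ p ^ n) : p ^ n ∈ [1, 9, 5, 25] := by
  rcases n with _ | n
  · simp
  have d7 : p ≤ 10 := ((Nat.Prime.dvd_mul hp).1 ((dvd_pow_self p n.succ_ne_zero).trans d4)).elim
    hp.dvd_factorial.1 fun e => (Nat.le_of_dvd two_pos e).trans (by norm_num)
  have d8 : n < 4 := by
    by_contra e
    have := (pow_dvd_pow p (show 5 ≤ n + 1 by omega)).trans d4
    rw [Nat.odd_pow_iff n.succ_ne_zero] at d6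
    revert this d6 hp
    interval_cases p <;> decide +kernel
  revert hp d4 d6 c4 d5
  interval_cases p <;> interval_cases n <;> decide +kernel

theorem cent_le {a t k i f m : G} (hz : z * z = 1) (z1 : z ≠ 1) (a3 : a ^ 3 = 1) (a1 : a ≠ 1) (za : z * a = a * z)
    (ha : ∀ d, d * z = z * d → d * a = a * d → d * d = 1 → d = 1 ∨ d = z)
    (hb : Od (centralizer {a}) ⊓ centralizer {z} ≤ zpowers a) (t2 : t * t = 1) (zt : z * t = t * z)
    (ta : t * a * t⁻¹ = a⁻¹) (ka : k * a = a * k) (kt : k * t * k⁻¹ = z * t) (ia : i * a = a * i) (it : i * t = t * i)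
    (i2 : i * i = z) (fa : f * a = a * f) (f7 : f ^ 7 = 1) (ma : m * a = a * m)
    (fm : f * (m * f⁻¹ * m⁻¹) * (f * (m * f⁻¹ * m⁻¹)) = z) (c1 : Nat.card (centralizer ({t} : Set G)) ∣ (10 : ℕ).factorial * 2)
    (c2 : ∀ B ≤ centralizer ({t} : Set G), (∀ b ∈ B, b ^ 3 = 1) → ¬ 81 ∣ Nat.card B) :
    centralizer {a} ≤ centralizer ({z} : Set G) := by
  set O := Od (centralizer {a})
  have hO : O ≤ centralizer {a} := H45.pcore_sub _ _
  have hN : centralizer {a} ≤ normalizer (O : Set G) := H45.pcore_norm _ _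
  have hOo := odd_card_Od (centralizer {a})
  have h3 := H41.A9.card_zpowers_three a3 a1
  have aO : zpowers a ≤ O := le_Od (by rw [h3]; decide) ⟨H45.zpowers_le_cent1 a, H45.cents_norm
    (H24.centralizer_zpowers a).ge⟩
  have az : zpowers a ≤ centralizer {z} := zpowers_le.2 (mem_cent_iff.2 za.symm)
  have ca : ∀ g ∈ O, ∀ c ∈ zpowers a, g * c = c * g := fun g hg c => H41.A9.cent_zpowers (mem_cent_iff.1 (hO hg))
  have der : ∀ u ∈ O, ∀ v ∈ O, u * v * u⁻¹ * v⁻¹ ∈ zpowers a := fun u hu v hv =>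
    H41.A9.der_le_of_cent hz hOo (hN (mem_cent_iff.2 za)) (fun g hg => mem_cent_iff.1 (hO hg)) hb hu hv
  have pw : ∀ u ∈ O, ∀ v ∈ O, ∀ n : ℕ, ∃ c ∈ zpowers a, (u * v) ^ n = c * (u ^ n * v ^ n) := fun u hu v hv n => by
    induction n with
    | zero => exact ⟨1, one_mem _, by simp⟩
    | succ n ih =>
      obtain ⟨c, hc, e⟩ := ih
      have := der _ (pow_mem hv n) u hu
      refine ⟨_, mul_mem hc this, ?_⟩
      rw [mul_assoc c, ← mul_assoc _ (u ^ (n + 1)), pow_succ u, ← mul_assoc _ (u ^ n), ← ca _ (pow_mem hu n) _ this,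
        pow_succ, e]
      group
  have ta' : ∀ c ∈ zpowers a, c * t = t * c → c = 1 := by
    rintro _ ⟨j, rfl⟩ e
    refine H41.A9.eq_one_of_sq_cube (mul_eq_one_iff_eq_inv.2 ?_)
      (by rw [← zpow_natCast, ← zpow_mul, mul_comm, zpow_mul, zpow_natCast, a3, one_zpow])
    rw [← inv_zpow, ← ta, conj_zpow, ← e, mul_inv_cancel_right]
  have key : ∀ p, p.Prime → ∀ g ∈ O, g ^ p ∈ zpowers a → g ∈ zpowers a := fun p hp => by
    have := Fact.mk hp
    let X : Subgroup G := ⟨⟨⟨{g | g ∈ O ∧ g ^ p ∈ zpowers a}, fun {u v} hu hv => ⟨mul_mem hu.1 hv.1, by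
      obtain ⟨c, hc, e⟩ := pw u hu.1 v hv.1 p
      exact e ▸ mul_mem hc (mul_mem hu.2 hv.2)⟩⟩, ⟨one_mem _, by simp⟩⟩,
      fun {u} hu => ⟨inv_mem hu.1, (inv_pow u p).symm ▸ inv_mem hu.2⟩⟩
    have XO : X ≤ O := fun _ h => h.1
    have aX : zpowers a ≤ X := fun c hc => ⟨aO hc, pow_mem hc p⟩
    have nX : ∀ g ∈ normalizer (O : Set G), g * a * g⁻¹ ∈ zpowers a → g ∈ normalizer (X : Set G) := fun g h1 h2 =>
      mem_normalizer_fintype fun u hu => ⟨conj_mem_of_norm h1 u hu.1, by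
        obtain ⟨j, e⟩ := hu.2
        rw [conj_pow, ← e, ← conj_zpow]
        exact zpow_mem h2 j⟩
    have nX' : ∀ g, g * a = a * g → g ∈ normalizer (X : Set G) := fun g h =>
      nX g (hN (mem_cent_iff.2 h)) (by simp [h])
    have Xz : X ⊓ centralizer {z} = zpowers a := le_antisymm ((inf_le_inf_right _ XO).trans hb) (le_inf aX az)
    have t1 : t * a ≠ a * t := fun e => a1 (ta' a (mem_zpowers a) e.symm)
    have c := H24.ZD.card_four hz t2 zt z1 (fun e => t1 (by simp [e])) (fun e => t1 (e ▸ za))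
      (hOo.of_dvd_nat (card_dvd_of_le XO)) (nX' z za)
      (nX t (H45.le_norm_pcore _ le_rfl (H41.A9.mem_norm_cent_of_inv ta)) (by simp [ta]))
    rw [← kt, H41.A9.card_inf_cent_conj (nX' k ka), Xz, h3,
      (eq_bot_iff_forall _).2 fun c (hc : c ∈ zpowers a ⊓ _) => ta' c hc.1 (mem_cent_iff.1 hc.2), card_bot] at c
    set B := X ⊓ centralizer {t}
    have Bp : ∀ b ∈ B, b ^ p = 1 := fun b hb => ta' _ hb.1.2 (Commute.pow_left (mem_cent_iff.1 hb.2) p)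
    obtain ⟨n, hn⟩ := IsPGroup.iff_card.1 (isPGroup_of_pow (Q := B) 1 (by simpa using Bp))
    have c4 := H77.card_modEq_card_inf_centralizer_pow (Q := B) (q := 2) (k := 2) (g := i)
      (mem_normalizer_fintype fun u hu => ⟨conj_mem_of_norm (nX' i ia) u hu.1, mem_cent_iff.2 (by
        simpa [it] using (Commute.conj (mem_cent_iff.1 hu.2) i).eq)⟩)
      (by rw [show 2 ^ 2 = 2 * 2 from rfl, pow_mul, sq i, i2, sq, hz]) 1
    rw [pow_one, sq i, i2, (eq_bot_iff_forall _).2 fun c (hc : c ∈ B ⊓ _) =>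
      ta' c (Xz.le ⟨hc.1.1, hc.2⟩) (mem_cent_iff.1 hc.1.2), card_bot] at c4
    have := Fact.mk (show Nat.Prime 7 by norm_num)
    have c7 := H77.card_modEq_card_inf_centralizer_pow (q := 7) (k := 1) (nX' f fa) f7 0
    have d1 := card_dvd_of_le (inf_le_left : X ⊓ centralizer {f ^ 7 ^ 0} ≤ X)
    have d2 := h3 ▸ card_dvd_of_le (le_inf aX (zpowers_le.2 (mem_cent_iff.2 (by simp [fa]))) :
      zpowers a ≤ X ⊓ centralizer {f ^ 7 ^ 0})
    have d3 : Nat.card B ∈ [1, 9, 5, 25] := hn ▸ num hp (hn ▸ (card_dvd_of_le (inf_le_right : B ≤ _)).trans c1)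
      (hn ▸ hOo.of_dvd_nat (card_dvd_of_le (inf_le_left.trans XO : B ≤ O))) (hn ▸ c4)
      fun e => hn ▸ c2 B inf_le_right (e ▸ Bp)
    have d9 := eq_of_le_of_card_ge (inf_le_left : X ⊓ centralizer {f ^ 7 ^ 0} ≤ X) (by
      generalize Nat.card ↥(X ⊓ centralizer {f ^ 7 ^ 0}) = r at *
      rw [one_pow, mul_one] at c
      rw [c] at c7 d1 ⊢
      exact (by decide +kernel : ∀ b ∈ [1, 9, 5, 25], ∀ r ∈ (3 * b * b).divisors, 3 ∣ r →
        3 * b * b ≡ r [MOD 7 ^ (0 + 1)] → 3 * b * b ≤ r) _ d3 r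
        (Nat.mem_divisors.2 ⟨d1, c ▸ Nat.card_pos.ne'⟩) d2 c7)
    have e1 : ∀ g ∈ X, f ∈ centralizer {g} := fun g hg => mem_cent_iff.2 (by
      simpa using (mem_cent_iff.1 (d9.ge hg).2).symm)
    intro g h1 h2
    refine Xz.le ⟨⟨h1, h2⟩, mem_cent_iff.2 (mem_cent_iff.1 ?_).symm⟩
    have e2 : m * f⁻¹ * m⁻¹ ∈ centralizer {g} := mem_cent_iff.2 (by
      simpa [mul_assoc] using (Commute.conj (mem_cent_iff.1 (inv_mem (e1 _ (conj_mem_of_norm (inv_mem (nX' m ma)) g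
        ⟨h1, h2⟩)))) m).eq)
    exact fm ▸ mul_mem (mul_mem (e1 g ⟨h1, h2⟩) e2) (mul_mem (e1 g ⟨h1, h2⟩) e2)
  have key2 : ∀ n : ℕ, n ≠ 0 → ∀ g ∈ O, g ^ n ∈ zpowers a → g ∈ zpowers a := fun n => by
    induction n using induction_on_primes with
    | zero => simp
    | one => simp
    | prime_mul p n hp ih =>
      exact fun h g hg e => ih (right_ne_zero_of_mul h) g hg (key p hp _ (pow_mem hg n) (by rwa [← pow_mul, mul_comm]))
  intro g hg
  obtain ⟨o, ho, c, -, hc, rfl⟩ := H24.ZD.zstar_dec (mem_cent_iff.2 za) hz (fun g hg e => (ha _ e.symm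
    (mem_cent_iff.1 (mul_mem (mul_mem hg (mem_cent_iff.2 za)) (inv_mem hg))) (by rw [conj_mul, hz]; simp)).resolve_left
    (by simpa using z1)) hg
  exact mul_mem (az (key2 _ (orderOf_pos o).ne' o ho.1 (by simp))) (mem_cent_iff.2 hc)

theorem eqns_ten : True := by
  have := @Im.eq_1.{0}
  have := @v9.eq_1
  trivial

end H27.AD
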